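import Mathlib

/-! Linear maps on vectors over the field of four elements, a vector being a pair of bit planes
(coefficients of `1` and of `ω`). -/

set_option autoImplicit false

namespace CfsgLib.KnownB.Fi22Mult.Rep

/-- a vector -/
abbrev Vc : Type := ℕ × ℕ

/-- the sum of two vectors -/
def vx (u v : Vc) : Vc := (u.1 ^^^ v.1, u.2 ^^^ v.2)

/-- multiplication by `ω` -/
def wm (v : Vc) : Vc := (v.2, v.1 ^^^ v.2)

/-- shift of the coordinates -/
def sh (k : ℕ) (v : Vc) : Vc := (v.1 <<< k, v.2 <<< k)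

/-- a vector or zero -/
def sel (b : Bool) (r : Vc) : Vc := bif b then r else (0, 0)

/-- image of a vector under the map with the given rows, the identity beyond the rows -/
def app : List Vc → ℕ → Vc → Vc
  | [], k, v => sh k v
  | r :: rs, k, v => vx (vx (sel (v.1.testBit 0) r) (sel (v.2.testBit 0) (wm r)))
      (app rs (k + 1) (v.1 >>> 1, v.2 >>> 1))

/-- unit rows from position `k` on -/
def unitRows : ℕ → ℕ → List Vc
  | _, 0 => []
  | k, n + 1 => (1 <<< k, 0) :: unitRows (k + 1) n

theorem length_unitRows : ∀ k n, (unitRows k n).length = n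
  | _, 0 => rfl
  | k, n + 1 => by simp [unitRows, length_unitRows (k + 1) n]

theorem app_unitRows : ∀ (n k : ℕ) (v : Vc), app (unitRows k n) k v = sh k v
  | 0, _, _ => rfl
  | n + 1, k, v => by
    rw [unitRows, app, app_unitRows n (k + 1)]
    obtain ⟨a, b⟩ := v
    have key : ∀ x : ℕ, (bif x.testBit 0 then 1 <<< k else 0) ^^^ (x >>> 1) <<< (k + 1) = x <<< k := by
      intro x
      refine Nat.eq_of_testBit_eq fun j => ?_
      rw [Nat.testBit_xor, Nat.testBit_shiftLeft, Nat.testBit_shiftLeft, Nat.testBit_shiftRight]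
      rcases lt_trichotomy j k with h | h | h
      · cases x.testBit 0 <;> simp [Nat.testBit_shiftLeft, show ¬ k ≤ j by omega, show ¬ k + 1 ≤ j by omega]
      · subst h
        cases hx : x.testBit 0 <;> simp [Nat.testBit_shiftLeft, hx, show ¬ j + 1 ≤ j by omega]
      · have e : 1 + (j - (k + 1)) = j - k := by omega
        have e1 : Nat.testBit 1 (j - k) = false := by
          rw [Bool.eq_false_iff, Ne, Nat.testBit_one_eq_true_iff_self_eq_zero]
          omega
        cases x.testBit 0 <;>
          simp [Nat.testBit_shiftLeft, e1, e, show k ≤ j by omega, show k + 1 ≤ j by omega]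
    refine Prod.ext ?_ ?_
    · rw [show (sh k (a, b)).1 = a <<< k from rfl, ← key a]
      cases a.testBit 0 <;> cases b.testBit 0 <;> simp [vx, wm, sel, sh]
    · rw [show (sh k (a, b)).2 = b <<< k from rfl, ← key b]
      cases a.testBit 0 <;> cases b.testBit 0 <;> simp [vx, wm, sel, sh]

/-- additive and commuting with `ω` -/
structure Lin (f : Vc → Vc) : Prop where
  add : ∀ u v, f (vx u v) = vx (f u) (f v)
  smul : ∀ v, f (wm v) = wm (f v)

theorem vx_self (u : Vc) : vx u u = (0, 0) := by simp [vx]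

theorem Lin.zero {f : Vc → Vc} (h : Lin f) : f (0, 0) = (0, 0) := by
  have e := h.add (0, 0) (0, 0)
  rwa [vx_self, vx_self] at e

theorem Lin.sel {f : Vc → Vc} (h : Lin f) (b : Bool) (r : Vc) :
    f (Rep.sel b r) = Rep.sel b (f r) := by
  cases b
  · exact h.zero
  · rfl

theorem lin_wm : Lin wm := by
  refine ⟨fun u v => ?_, fun v => rfl⟩
  simp only [wm, vx, Prod.mk.injEq, true_and]
  ac_rfl

theorem lin_sh (k : ℕ) : Lin (sh k) := by
  refine ⟨fun u v => ?_, fun v => ?_⟩ <;> simp [sh, vx, wm, Nat.shiftLeft_xor_distrib]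

theorem lin_app : ∀ (A : List Vc) (k : ℕ), Lin (app A k)
  | [], k => by
    show Lin fun v => sh k v
    exact lin_sh k
  | r :: rs, k => by
    have ih := lin_app rs (k + 1)
    refine ⟨fun u v => ?_, fun v => ?_⟩
    · simp only [app]
      rw [show (vx u v).1 >>> 1 = u.1 >>> 1 ^^^ v.1 >>> 1 from Nat.shiftRight_xor_distrib,
        show (vx u v).2 >>> 1 = u.2 >>> 1 ^^^ v.2 >>> 1 from Nat.shiftRight_xor_distrib,
        show ((u.1 >>> 1 ^^^ v.1 >>> 1, u.2 >>> 1 ^^^ v.2 >>> 1) : Vc) =
          vx (u.1 >>> 1, u.2 >>> 1) (v.1 >>> 1, v.2 >>> 1) from rfl, ih.add]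
      simp only [vx, Nat.testBit_xor]
      cases u.1.testBit 0 <;> cases v.1.testBit 0 <;> cases u.2.testBit 0 <;> cases v.2.testBit 0 <;>
        simp [sel, Nat.xor_assoc, Nat.xor_comm, Nat.xor_left_comm]
    · simp only [app]
      rw [show (wm v).1 >>> 1 = v.2 >>> 1 from rfl,
        show (wm v).2 >>> 1 = v.1 >>> 1 ^^^ v.2 >>> 1 from Nat.shiftRight_xor_distrib,
        show ((v.2 >>> 1, v.1 >>> 1 ^^^ v.2 >>> 1) : Vc) = wm (v.1 >>> 1, v.2 >>> 1) from rfl, ih.smul]
      simp only [wm, vx, Nat.testBit_xor]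
      cases v.1.testBit 0 <;> cases v.2.testBit 0 <;>
        simp [sel, Nat.xor_assoc, Nat.xor_comm, Nat.xor_left_comm]

/-- the rows leave the higher coordinates in place -/
theorem app_sh : ∀ (A : List Vc) (k : ℕ) (v : Vc), app A k (sh A.length v) = sh (k + A.length) v
  | [], k, v => by simp [app, sh]
  | r :: rs, k, v => by
    simp only [app, List.length_cons]
    have e : ∀ a : ℕ, (a <<< (rs.length + 1)).testBit 0 = false := fun a => by
      simp
    have e' : ∀ a : ℕ, (a <<< (rs.length + 1)) >>> 1 = a <<< rs.length := fun a => by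
      rw [Nat.shiftLeft_succ, Nat.shiftRight_eq_div_pow]
      omega
    rw [show (sh (rs.length + 1) v).1.testBit 0 = false from e _,
      show (sh (rs.length + 1) v).2.testBit 0 = false from e _,
      show ((sh (rs.length + 1) v).1 >>> 1, (sh (rs.length + 1) v).2 >>> 1) = sh rs.length v from
        Prod.ext (e' _) (e' _), app_sh rs (k + 1) v]
    simp [sel, vx, Nat.add_right_comm, Nat.add_assoc]

/-- composition with a linear map -/
theorem app_map {f : Vc → Vc} (hf : Lin f) : ∀ (A : List Vc) (k : ℕ) (v : Vc),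
    (∀ u, f (sh (k + A.length) u) = sh (k + A.length) u) → app (A.map f) k v = f (app A k v)
  | [], k, v, h => by simpa [app] using (h v).symm
  | r :: rs, k, v, h => by
    simp only [List.map_cons, app]
    rw [app_map hf rs (k + 1) _ (by simpa [Nat.add_right_comm, Nat.add_assoc, Nat.add_comm 1] using h),
      hf.add, hf.add, hf.sel, hf.sel, hf.smul]

/-- comparison of lists of vectors -/
def eqL : List Vc → List Vc → Bool
  | [], [] => true
  | u :: A, v :: B => Nat.beq u.1 v.1 && Nat.beq u.2 v.2 && eqL A B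
  | _, _ => false

theorem eqL_sound : ∀ {A B : List Vc}, eqL A B = true → A = B
  | [], [], _ => rfl
  | [], _ :: _, h => by simp [eqL] at h
  | _ :: _, [], h => by simp [eqL] at h
  | u :: A, v :: B, h => by
    simp only [eqL, Bool.and_eq_true] at h
    rw [eqL_sound h.2, Prod.ext (Nat.eq_of_beq_eq_true h.1.1) (Nat.eq_of_beq_eq_true h.1.2)]

end CfsgLib.KnownB.Fi22Mult.Rep
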