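import Cfsg.Agent.Lib.KnownB.Fi22Mult.Data

/-! The three relator words of `Fi₂₂` and the relations between their values in a central extension. -/

set_option autoImplicit false
set_option maxRecDepth 100000
set_option Elab.async false

namespace CfsgLib.KnownB.Fi22Mult

/-- `n` copies of a word -/
def repW : ℕ → List ℕ → List ℕ
  | 0, _ => []
  | n + 1, w => repW n w ++ w

/-- the spider word -/
def spiderW : List ℕ := [3, 2, 1, 3, 4, 5, 3, 7, 8]

/-- the first word of type `E₇` -/
def sevenA : List ℕ := [0, 1, 2, 3, 4, 5, 7]

/-- the second word of type `E₇` -/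
def sevenB : List ℕ := [1, 2, 3, 4, 5, 6, 7]

/-- the product of three conjugates of the tenth power of the spider word -/
def spiderCube : List ℕ := (conjS.map fun a => a ++ repW 10 spiderW ++ a.reverse).flatten

theorem movesA_ok : reducesTo movesA (repW 18 sevenA) 63 = true := by decide +kernel

theorem movesB_ok : reducesTo movesB (repW 18 sevenB) 63 = true := by decide +kernel

theorem movesS_ok : reducesTo movesS spiderCube ((conjS.map List.length).sum + 135) = true := by
  decide +kernel

theorem conjS_ok : conjS.length = 3 ∧ (conjS.all fun a => a.all fun i => Nat.blt i 9) = true := by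
  decide +kernel

variable {Q : Type*} [Group Q] {f : ℕ → Q} {T : Q}

theorem val_repW (n : ℕ) (w : List ℕ) : val f (repW n w) = val f w ^ n := by
  induction n with
  | zero => simp [repW, val_nil]
  | succ n ih => rw [repW, val_append, ih, pow_succ]

theorem Braided.seven (h : Braided f T) {w : List ℕ} {ms : List (ℕ × ℕ)}
    (e : reducesTo ms (repW 18 w) 63 = true) : (val f w ^ 9) ^ 2 = T ^ 63 := by
  rw [← pow_mul, ← val_repW]
  exact h.reduces e

theorem Braided.conj_word (h : Braided f T) {z : Q} (hz : ∀ g : Q, g * z = z * g) :
    ∀ a : List ℕ, (∀ i ∈ a, i < 9) → val f a * z * val f a.reverse = z * T ^ a.length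
  | [], _ => by simp [val]
  | i :: a, hi => by
    have ih := h.conj_word hz a fun j hj => hi j (List.mem_cons_of_mem _ hj)
    rw [List.reverse_cons, val_append, val_cons, show val f [i] = f i by simp [val]]
    calc f i * val f a * z * (val f a.reverse * f i)
        = f i * (val f a * z * val f a.reverse) * f i := by simp only [mul_assoc]
      _ = f i * (z * T ^ a.length) * f i := by rw [ih]
      _ = z * T ^ a.length * (f i * f i) := by
          rw [← mul_assoc (z * T ^ a.length)]
          congr 1
          have h1 : Commute (f i) (T ^ a.length) := Commute.pow_right (h.central (f i)) _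
          rw [← mul_assoc, hz, mul_assoc, h1.eq, ← mul_assoc]
      _ = z * T ^ (i :: a).length := by
          rw [h.sq i (hi i List.mem_cons_self), List.length_cons, pow_succ, mul_assoc]

theorem Braided.spider (h : Braided f T) (hz : ∀ g : Q, g * val f spiderW ^ 10 = val f spiderW ^ 10 * g) :
    (val f spiderW ^ 10) ^ 3 = T ^ 135 := by
  generalize hS : val f spiderW ^ 10 = z at hz
  have key : ∀ L : List (List ℕ), (∀ a ∈ L, ∀ i ∈ a, i < 9) →
      val f (L.map fun a => a ++ repW 10 spiderW ++ a.reverse).flatten =
        z ^ L.length * T ^ (L.map List.length).sum := by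
    intro L
    induction L with
    | nil => simp [val]
    | cons a L ih =>
      intro hL
      rw [List.map_cons, List.flatten_cons, val_append, val_append, val_append, val_repW, hS,
        h.conj_word hz a (hL a List.mem_cons_self), ih fun b hb => hL b (List.mem_cons_of_mem _ hb),
        List.map_cons, List.sum_cons, List.length_cons, pow_succ' z, pow_add]
      have h1 : Commute (T ^ a.length) (z ^ L.length) :=
        (Commute.pow_right (hz (T ^ a.length)) _)
      rw [mul_assoc z, ← mul_assoc (T ^ a.length), h1.eq]
      simp only [mul_assoc]
  have hl := conjS_ok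
  simp only [List.all_eq_true, Nat.blt_eq] at hl
  have e := h.reduces movesS_ok
  rw [spiderCube, key conjS hl.2, hl.1, add_comm, pow_add] at e
  exact mul_right_cancel e

end CfsgLib.KnownB.Fi22Mult
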