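import Cfsg.Agent.Lib.KnownB.Fi22Mult.Words
import Cfsg.Prelude.Def_Spor_Fi22

/-! The presented group `Fi₂₂` in terms of numbered generators. -/

set_option autoImplicit false
set_option maxRecDepth 100000

namespace CfsgLib.KnownB.Fi22Mult

open Cfsg.Spor

/-- number of a node -/
def posG : Fi22.Gen → ℕ
  | .a => 0
  | .b => 1
  | .c => 2
  | .d => 3
  | .e => 4
  | .f => 5
  | .g => 6
  | .h => 7
  | .i => 8

/-- node of a number -/
def ndG (i : ℕ) : Fi22.Gen :=
  ([.a, .b, .c, .d, .e, .f, .g, .h, .i] : List Fi22.Gen).getD i .a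

theorem ndG_posG (x : Fi22.Gen) : ndG (posG x) = x := by cases x <;> rfl

theorem posG_lt (x : Fi22.Gen) : posG x < 9 := by cases x <;> decide

theorem posG_ndG : ∀ i < 9, posG (ndG i) = i := by decide

theorem mem_nodes : ∀ x : Fi22.Gen, x ∈ coxNodes Fi22.edges := by intro x; cases x <;> decide

theorem label_cases (x y : Fi22.Gen) : (x = y ∧ coxLabel Fi22.edges x y = 1) ∨
    (edgeB (posG x) (posG y) = true ∧ coxLabel Fi22.edges x y = 3) ∨
    (edgeB (posG x) (posG y) = false ∧ x ≠ y ∧ coxLabel Fi22.edges x y = 2) := by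
  cases x <;> cases y <;> decide

/-- a generator of the presented group -/
def gen (i : ℕ) : Fi22 := PresentedGroup.of (ndG i)

theorem cox_rel (x y : Fi22.Gen) :
    ((PresentedGroup.of x : Fi22) * PresentedGroup.of y) ^ coxLabel Fi22.edges x y = 1 := by
  have h := PresentedGroup.one_of_mem (rels := coxRelators Fi22.edges ∪ {r | r ∈ Fi22.extra})
    (Or.inl ⟨x, mem_nodes x, y, mem_nodes y, rfl⟩ :
      (FreeGroup.of x * FreeGroup.of y) ^ coxLabel Fi22.edges x y ∈ _)
  rw [map_pow, map_mul] at h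
  exact h

theorem gen_sq (i : ℕ) : gen i * gen i = 1 := by
  have h := cox_rel (ndG i) (ndG i)
  have hl : coxLabel Fi22.edges (ndG i) (ndG i) = 1 := by rw [coxLabel, if_pos rfl]
  rw [hl, pow_one] at h
  exact h

theorem gen_inv (i : ℕ) : (gen i)⁻¹ = gen i := inv_eq_of_mul_eq_one_right (gen_sq i)

theorem gen_braid {i j : ℕ} (hi : i < 9) (hj : j < 9) (h : edgeB i j = true) :
    gen i * gen j * gen i = gen j * gen i * gen j := by
  rcases label_cases (ndG i) (ndG j) with ⟨e, -⟩ | ⟨-, hl⟩ | ⟨e, -, -⟩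
  · exfalso
    have hij : i = j := by
      have := congrArg posG e
      rwa [posG_ndG i hi, posG_ndG j hj] at this
    subst hij
    revert h
    revert i
    decide
  · have h3 := cox_rel (ndG i) (ndG j)
    rw [hl] at h3
    have h' : (gen i * gen j * gen i) * (gen j * gen i * gen j) = 1 := by
      rw [← h3]
      simp only [gen, pow_succ, pow_zero, one_mul, mul_assoc]
    rw [eq_inv_of_mul_eq_one_left h', mul_inv_rev, mul_inv_rev, gen_inv, gen_inv]
    simp only [mul_assoc]
  · rw [posG_ndG i hi, posG_ndG j hj, h] at e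
    exact absurd e (by decide)

theorem gen_comm {i j : ℕ} (hi : i < 9) (hj : j < 9) (h : edgeB i j = false) :
    gen i * gen j = gen j * gen i := by
  rcases label_cases (ndG i) (ndG j) with ⟨e, -⟩ | ⟨e, -⟩ | ⟨-, -, hl⟩
  · have hij : i = j := by
      have := congrArg posG e
      rwa [posG_ndG i hi, posG_ndG j hj] at this
    subst hij
    rfl
  · rw [posG_ndG i hi, posG_ndG j hj, h] at e
    exact absurd e (by decide)
  · have h2 := cox_rel (ndG i) (ndG j)
    rw [hl] at h2
    have h' : (gen i * gen j) * (gen i * gen j) = 1 := by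
      rw [← h2, pow_two]
      rfl
    rw [eq_inv_of_mul_eq_one_left h', mul_inv_rev, gen_inv, gen_inv]

theorem extra_eq : Fi22.extra = [((spiderW.map fun i => FreeGroup.of (ndG i)).prod) ^ 10,
    ((sevenA.map fun i => FreeGroup.of (ndG i)).prod) ^ 9,
    ((sevenB.map fun i => FreeGroup.of (ndG i)).prod) ^ 9] := by
  simp [Fi22.extra, spiderW, sevenA, sevenB, ndG, mul_assoc]

theorem val_mk {w : List ℕ} {n : ℕ}
    (h : ((w.map fun i => FreeGroup.of (ndG i)).prod) ^ n ∈ Fi22.extra) : val gen w ^ n = 1 := by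
  have h' := PresentedGroup.one_of_mem (rels := coxRelators Fi22.edges ∪ {r | r ∈ Fi22.extra})
    (Or.inr h : ((w.map fun i => FreeGroup.of (ndG i)).prod) ^ n ∈ _)
  rw [map_pow, map_list_prod, List.map_map] at h'
  exact h'

theorem spider_one : val gen spiderW ^ 10 = 1 := val_mk (by rw [extra_eq]; exact List.mem_cons_self)

theorem sevenA_one : val gen sevenA ^ 9 = 1 :=
  val_mk (by rw [extra_eq]; exact List.mem_cons_of_mem _ List.mem_cons_self)

theorem sevenB_one : val gen sevenB ^ 9 = 1 :=
  val_mk (by rw [extra_eq]; exact List.mem_cons_of_mem _ (List.mem_cons_of_mem _ List.mem_cons_self))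

end CfsgLib.KnownB.Fi22Mult
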