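import Cfsg.Agent.Lib.KnownB.Fi22Mult.Cover3
import Cfsg.Agent.Lib.Schur.Basic

/-! The multiplier of `Fi₂₂` from simplicity and a twofold stem extension. -/

set_option autoImplicit false

namespace CfsgLib.KnownB.Fi22Mult

open Cfsg.Spor

theorem hasCyclicSchurMultiplier_six (hs : IsSimpleGroup Fi22) [Finite Fi22]
    (h2 : ∃ (Γ : Type) (_ : Group Γ) (σ : Γ →* Fi22),
      Cfsg.IsStemExtension σ ∧ 2 ∣ Nat.card σ.ker) :
    Cfsg.HasCyclicSchurMultiplier Fi22 6 := by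
  obtain ⟨Γ, _, _, σ, -, hσ, -, -, -, ⟨e⟩⟩ := CfsgLib.Schur.exists_cover Fi22
  obtain ⟨w, hw, hle⟩ := ker_le_zpowers σ hσ (Or.inl (Rep.sevenC_one hs))
  have hcard : Nat.card σ.ker ∣ 6 :=
    (Subgroup.card_dvd_of_le hle).trans (by rw [Nat.card_zpowers]; exact orderOf_dvd_of_pow_eq_one hw)
  have hdvd : ∀ (X : Type) [Group X] (τ : X →* Fi22), Cfsg.IsStemExtension τ →
      Nat.card τ.ker ∣ Nat.card σ.ker := by
    intro X _ τ hτ
    obtain ⟨π, hπ⟩ := CfsgLib.Schur.exists_mult_surjective τ hτ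
    rw [Nat.card_congr e.toEquiv]
    exact Subgroup.card_dvd_of_surjective π hπ
  obtain ⟨X, _, τ, hτ, d2⟩ := h2
  obtain ⟨Y, _, _, υ, hυ, d3⟩ := Rep.exists_stem_three
  have h6 : Nat.card σ.ker = 6 :=
    Nat.dvd_antisymm hcard (Nat.Coprime.mul_dvd_of_dvd_of_dvd (by norm_num : Nat.Coprime 2 3)
      (d2.trans (hdvd X τ hτ)) (d3.trans (hdvd Y υ hυ)))
  have hcyc : IsCyclic σ.ker :=
    isCyclic_of_injective (Subgroup.inclusion hle) (Subgroup.inclusion_injective hle)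
  rw [Cfsg.HasCyclicSchurMultiplier, CfsgLib.Schur.hasSchurMultiplier_iff]
  exact ⟨(h6 ▸ zmodCyclicMulEquiv hcyc).trans e⟩

end CfsgLib.KnownB.Fi22Mult
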