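import Cfsg.Agent.Lib.KnownB.Fi22Mult.SignFacts

/-! A stem extension of `Fi₂₂` with kernel of order two, from signed permutations of 14080 points. -/

set_option autoImplicit false
set_option maxRecDepth 100000

namespace CfsgLib.KnownB.Fi22Mult.Sign

open Cfsg.Spor

theorem low_lt (e : ℕ) : e &&& 1 < 2 := by rw [Nat.and_one_is_mod]; omega

theorem xor_low_lt {x : ℕ} (hx : x < 28160) (e : ℕ) : x ^^^ (e &&& 1) < 28160 := by
  have h : (x ^^^ (e &&& 1)) >>> 1 = x >>> 1 := by
    rw [Nat.shiftRight_xor_distrib, show (e &&& 1) >>> 1 = 0 by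
      rw [Nat.shiftRight_eq_div_pow]; exact Nat.div_eq_of_lt (low_lt e), Nat.xor_zero]
  rw [Nat.shiftRight_eq_div_pow, Nat.shiftRight_eq_div_pow] at h
  omega

theorem step_lt {k e : ℕ} (hk : k < 9) (he : e < 28160) : step k e < 28160 :=
  xor_low_lt (invAt_all hk (p := e >>> 1) (by rw [Nat.shiftRight_eq_div_pow]; omega)).1 e

theorem step_step {k e : ℕ} (hk : k < 9) (he : e < 28160) : step k (step k e) = e := by
  have h : ∀ p < 14080, run [k, k] (2 * p) = run [] (2 * p) := by
    intro p hp
    show step k (step k (2 * p)) = 2 * p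
    obtain ⟨h1, h2⟩ := invAt_all hk hp
    rw [show step k (2 * p) = img k p by
      show img k ((2 * p) >>> 1) ^^^ ((2 * p) &&& 1) = img k p
      rw [Nat.and_one_is_mod, Nat.shiftRight_eq_div_pow, show 2 * p % 2 = 0 by omega,
        show 2 * p / 2 ^ 1 = p by omega, Nat.xor_zero]]
    exact h2
  exact run_congr h he

/-- the signed permutation of a node -/
noncomputable def sG (x : Fi22.Gen) : Equiv.Perm (Fin 28160) :=
  Function.Involutive.toPerm (fun e => ⟨step (posG x) e, step_lt (posG_lt x) e.2⟩)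
    fun e => Fin.ext (step_step (posG_lt x) e.2)

/-- the signed permutation of a numbered node -/
noncomputable def sN (i : ℕ) : Equiv.Perm (Fin 28160) := sG (ndG i)

theorem flip_lt {e : ℕ} (he : e < 28160) : flip e < 28160 := xor_low_lt he 1

/-- the change of sign -/
noncomputable def sZ : Equiv.Perm (Fin 28160) :=
  Function.Involutive.toPerm (fun e => ⟨flip e, flip_lt e.2⟩) fun e => Fin.ext (flip_flip e)

theorem val_sN_apply : ∀ w : List ℕ, (∀ i ∈ w, i < 9) → ∀ e : Fin 28160,
    ((val sN w e : Fin 28160) : ℕ) = run w.reverse e := by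
  intro w
  induction w with
  | nil => intro _ e; rfl
  | cons i w ih =>
    intro hw e
    rw [val_cons, Equiv.Perm.mul_apply, List.reverse_cons, run_append]
    show step (posG (ndG i)) _ = step i _
    rw [posG_ndG i (hw i List.mem_cons_self), ih fun j hj => hw j (List.mem_cons_of_mem _ hj)]

theorem sG_sq (x : Fi22.Gen) : sG x * sG x = 1 :=
  Equiv.ext fun e => Fin.ext (step_step (posG_lt x) e.2)

theorem sG_sZ (x : Fi22.Gen) : sG x * sZ = sZ * sG x :=
  Equiv.ext fun e => Fin.ext (step_flip _ _)

theorem sZ_sq : sZ * sZ = 1 := Equiv.ext fun e => Fin.ext (flip_flip e)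

theorem sZ_ne_one : sZ ≠ 1 := by
  intro h
  have e := congrArg Fin.val (Equiv.ext_iff.1 h ⟨0, by omega⟩)
  exact absurd e (by decide)

theorem sG_cox (x y : Fi22.Gen) : (sG x * sG y) ^ coxLabel Fi22.edges x y = 1 := by
  have key : ∀ i j, i < 9 → j < 9 → i < j →
      (edgeB i j = true → sN i * sN j * sN i = sN j * sN i * sN j) ∧
        (edgeB i j = false → sN i * sN j = sN j * sN i) := by
    intro i j hi hj hij
    have mem : (if edgeB i j then ([i, j, i], [j, i, j]) else ([i, j], [j, i])) ∈ allRels := by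
      rw [allRels, List.mem_flatMap]
      refine ⟨i, List.mem_range.2 hi, List.mem_filterMap.2 ⟨j, List.mem_range.2 hj, ?_⟩⟩
      exact if_pos (Nat.ble_eq_true_of_le hij)
    constructor <;> intro h <;> rw [h] at mem
    · rw [show sN i * sN j * sN i = val sN [i, j, i] by simp [val, mul_assoc],
        show sN j * sN i * sN j = val sN [j, i, j] by simp [val, mul_assoc]]
      refine Equiv.ext fun e => Fin.ext ?_
      rw [val_sN_apply _ (by simp [hi, hj]), val_sN_apply _ (by simp [hi, hj])]
      exact run_congr (fun p hp => Nat.eq_of_beq_eq_true (relsAt_all hp _ mem)) e.2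
    · rw [show sN i * sN j = val sN [i, j] by simp [val],
        show sN j * sN i = val sN [j, i] by simp [val]]
      refine Equiv.ext fun e => Fin.ext ?_
      rw [val_sN_apply _ (by simp [hi, hj]), val_sN_apply _ (by simp [hi, hj])]
      exact (run_congr (fun p hp => Nat.eq_of_beq_eq_true (relsAt_all hp _ mem)) e.2).symm
  have sym : ∀ i j, edgeB i j = edgeB j i := fun i j => by
    rw [edgeB, edgeB]; simp only [Bool.or_comm]
  have hN : ∀ z, sN (posG z) = sG z := fun z => congrArg sG (ndG_posG z)
  rcases label_cases x y with ⟨rfl, hl⟩ | ⟨he, hl⟩ | ⟨he, hne, hl⟩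
  · rw [hl, pow_one, sG_sq]
  · rw [hl]
    have e : sG x * sG y * sG x = sG y * sG x * sG y := by
      rcases lt_trichotomy (posG x) (posG y) with h | h | h
      · have := (key _ _ (posG_lt x) (posG_lt y) h).1 he
        rwa [hN, hN] at this
      · have : x = y := by rw [← ndG_posG x, h, ndG_posG y]
        rw [this]
      · have := (key _ _ (posG_lt y) (posG_lt x) h).1 (by rw [sym]; exact he)
        rw [hN, hN] at this
        exact this.symm
    calc (sG x * sG y) ^ 3 = (sG x * sG y * sG x) * (sG y * sG x * sG y) := by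
          simp only [pow_succ, pow_zero, one_mul, mul_assoc]
      _ = (sG x * sG y * sG x) * (sG x * sG y * sG x) := by rw [← e]
      _ = sG x * sG y * (sG x * sG x) * sG y * sG x := by simp only [mul_assoc]
      _ = 1 := by rw [sG_sq, mul_one, mul_assoc (sG x), sG_sq, mul_one, sG_sq]
  · rw [hl]
    have e : sG x * sG y = sG y * sG x := by
      rcases lt_trichotomy (posG x) (posG y) with h | h | h
      · have := (key _ _ (posG_lt x) (posG_lt y) h).2 he
        rwa [hN, hN] at this
      · exact absurd (by rw [← ndG_posG x, h, ndG_posG y]) hne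
      · have := (key _ _ (posG_lt y) (posG_lt x) h).2 (by rw [sym]; exact he)
        rw [hN, hN] at this
        exact this.symm
    calc (sG x * sG y) ^ 2 = sG x * sG y * (sG y * sG x) := by rw [pow_two]; nth_rw 2 [e]
      _ = 1 := by rw [mul_assoc, ← mul_assoc (sG y), sG_sq, one_mul, sG_sq]

theorem run_repW (w : List ℕ) {k : ℕ} (h : ∀ e < 28160, run w e = step k e ∧ step k e < 28160) :
    ∀ (n : ℕ) (e : ℕ), e < 28160 → run (repW n w) e = run (List.replicate n k) e ∧
      run (repW n w) e < 28160 := by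
  intro n
  induction n with
  | zero => intro e he; exact ⟨rfl, he⟩
  | succ n ih =>
    intro e he
    obtain ⟨h1, h2⟩ := ih e he
    rw [repW, run_append, List.replicate_succ', run_append, ← h1]
    exact ⟨(h _ h2).1, (h _ h2).1 ▸ (h _ h2).2⟩

theorem val_pow_eq {w : List ℕ} (hw : ∀ i ∈ w, i < 9) {k m t : ℕ}
    (hprod : ∀ p < 14080, prodAt k w p = true) (hpow : ∀ p < 14080, powAt k m t p = true)
    (g : Equiv.Perm (Fin 28160)) (ht : ∀ p < 14080, ∀ e : Fin 28160, (e : ℕ) = 2 * p →
      ((g e : Fin 28160) : ℕ) = 2 * p + t) (hg : g * sZ = sZ * g) : (val sN w.reverse) ^ m = g := by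
  rw [← val_repW]
  have h : ∀ e < 28160, run w e = step k e ∧ step k e < 28160 := by
    intro e he
    have he2 : e >>> 1 < 14080 := by rw [Nat.shiftRight_eq_div_pow]; omega
    have h1 := hprod _ he2
    simp only [prodAt, Bool.and_eq_true] at h1
    refine ⟨run_congr (w := [k]) (fun p hp => ?_) he, xor_low_lt (Nat.le_of_ble_eq_true h1.1) e⟩
    have h2 := hprod p hp
    simp only [prodAt, Bool.and_eq_true] at h2
    show run w (2 * p) = img k ((2 * p) >>> 1) ^^^ ((2 * p) &&& 1)
    rw [Nat.and_one_is_mod, Nat.shiftRight_eq_div_pow, show 2 * p % 2 = 0 by omega,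
      show 2 * p / 2 ^ 1 = p by omega, Nat.xor_zero]
    exact Nat.eq_of_beq_eq_true h2.2
  have hlet : ∀ i ∈ repW m w.reverse, i < 9 := by
    intro i hi
    have hmem : ∀ n, i ∈ repW n w.reverse → i ∈ w := by
      intro n
      induction n with
      | zero => simp [repW]
      | succ n ih =>
        rw [repW, List.mem_append]
        rintro (h | h)
        · exact ih h
        · exact List.mem_reverse.1 h
    exact hw i (hmem m hi)
  have hrev : ∀ n, (repW n w.reverse).reverse = repW n w := by
    intro n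
    induction n with
    | zero => rfl
    | succ n ih =>
      rw [repW, List.reverse_append, ih, List.reverse_reverse, repW]
      clear ih
      induction n with
      | zero => simp [repW]
      | succ n ih => rw [repW, ← List.append_assoc, ih]
  refine Equiv.ext fun e => Fin.ext ?_
  rw [val_sN_apply _ hlet, hrev, (run_repW w h m e e.2).1]
  have hz : ∀ e : Fin 28160, ((g (sZ e) : Fin 28160) : ℕ) = flip (g e) := fun e => by
    have := Equiv.ext_iff.1 hg e
    rw [Equiv.Perm.mul_apply, Equiv.Perm.mul_apply] at this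
    rw [this]; rfl
  rcases Nat.even_or_odd' (e : ℕ) with ⟨p, he | he⟩
  · rw [ht p (by omega) e he, he]
    exact Nat.eq_of_beq_eq_true (hpow p (by omega))
  · have hp : p < 14080 := by omega
    have e0 : e = sZ ⟨2 * p, by omega⟩ := Fin.ext (he.trans (flip_two_mul p).symm)
    rw [e0, hz, ht p hp ⟨2 * p, by omega⟩ rfl]
    show run _ (flip (2 * p)) = _
    have h3 : run (List.replicate m k) (2 * p) = 2 * p + t := Nat.eq_of_beq_eq_true (hpow p hp)
    rw [run_flip, h3]

theorem val_reverse : ∀ w : List ℕ, val sN w.reverse = (val sN w)⁻¹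
  | [] => by simp [val]
  | i :: w => by
    rw [List.reverse_cons, val_append, val_reverse w, show val sN [i] = sN i by simp [val], val_cons, mul_inv_rev,
      show (sN i)⁻¹ = sN i from inv_eq_of_mul_eq_one_right (sG_sq (ndG i))]

theorem ones_pN (p : ℕ) (e : Fin 28160) (h : (e : ℕ) = 2 * p) :
    (((1 : Equiv.Perm (Fin 28160)) e : Fin 28160) : ℕ) = 2 * p + 0 := h

theorem spider_sN : val sN spiderW ^ 10 = 1 := by
  have h : val sN spiderW.reverse ^ 10 = 1 :=
    val_pow_eq (by decide) (fun p hp => (prodAt_all hp).1) (fun p hp => (powAt_all hp).1) 1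
      (fun p _ e he => ones_pN p e he) (by simp)
  rwa [val_reverse, inv_pow, inv_eq_one] at h

theorem sevenA_sN : val sN sevenA ^ 9 = sZ := by
  have h : val sN sevenA.reverse ^ 9 = sZ :=
    val_pow_eq (by decide) (fun p hp => (prodAt_all hp).2.1) (fun p hp => (powAt_all hp).2.1) sZ
      (fun p _ e he => (congrArg flip he).trans (flip_two_mul p)) rfl
  rw [val_reverse, inv_pow, inv_eq_iff_eq_inv, inv_eq_of_mul_eq_one_right sZ_sq] at h
  exact h

theorem sevenB_sN : val sN sevenB ^ 9 = 1 := by
  have h : val sN sevenB.reverse ^ 9 = 1 :=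
    val_pow_eq (by decide) (fun p hp => (prodAt_all hp).2.2) (fun p hp => (powAt_all hp).2.2) 1
      (fun p _ e he => ones_pN p e he) (by simp)
  rwa [val_reverse, inv_pow, inv_eq_one] at h

/-- the centraliser of the sign change -/
noncomputable def cen2 : Subgroup (Equiv.Perm (Fin 28160)) := Subgroup.centralizer {sZ}

theorem sG_mem (x : Fi22.Gen) : sG x ∈ cen2 := Subgroup.mem_centralizer_singleton_iff.2 (sG_sZ x)

/-- the sign changes inside their centraliser -/
noncomputable def sgn : Subgroup cen2 := Subgroup.zpowers ⟨sZ, Subgroup.mem_centralizer_singleton_iff.2 rfl⟩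

instance sgn_normal : sgn.Normal := by
  constructor
  intro n hn g
  obtain ⟨k, rfl⟩ := Subgroup.mem_zpowers_iff.1 hn
  have h : Commute g (⟨sZ, Subgroup.mem_centralizer_singleton_iff.2 rfl⟩ : cen2) :=
    Subtype.ext (Subgroup.mem_centralizer_singleton_iff.1 g.2)
  rw [(h.zpow_right k).eq, mul_inv_cancel_right]
  exact hn

theorem mem_sgn {p : Equiv.Perm (Fin 28160)} (hp : p ∈ cen2) :
    (⟨p, hp⟩ : cen2) ∈ sgn ↔ p ∈ Subgroup.zpowers sZ := by
  rw [sgn, Subgroup.mem_zpowers_iff, Subgroup.mem_zpowers_iff]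
  refine exists_congr fun k => ?_
  rw [Subtype.ext_iff, SubgroupClass.coe_zpow]

/-- the image of a generator modulo signs -/
noncomputable def rG (x : Fi22.Gen) : cen2 ⧸ sgn := QuotientGroup.mk ⟨sG x, sG_mem x⟩

theorem val_rG (w : List ℕ) : ∃ h : val sN w ∈ cen2,
    val (fun i => rG (ndG i)) w = QuotientGroup.mk ⟨val sN w, h⟩ := by
  induction w with
  | nil => exact ⟨one_mem _, rfl⟩
  | cons i w ih =>
    obtain ⟨h, e⟩ := ih
    refine ⟨by rw [val_cons]; exact mul_mem (sG_mem _) h, ?_⟩
    rw [val_cons, e, rG, ← QuotientGroup.mk_mul]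
    rfl

theorem val_rG_pow {w : List ℕ} {n : ℕ} {p : Equiv.Perm (Fin 28160)} (h : val sN w ^ n = p)
    (hp : p ∈ Subgroup.zpowers sZ) : val (fun i => rG (ndG i)) w ^ n = 1 := by
  obtain ⟨hm, e⟩ := val_rG w
  rw [e, ← QuotientGroup.mk_pow, QuotientGroup.eq_one_iff]
  exact (mem_sgn (pow_mem hm n)).2 (h ▸ hp)

/-- the map of `Fi₂₂` modulo signs -/
noncomputable def toR : Fi22 →* cen2 ⧸ sgn :=
  PresentedGroup.toGroup (f := rG) (by
    rintro r (⟨x, -, y, -, rfl⟩ | hr)
    · simp only [map_pow, map_mul, FreeGroup.lift_apply_of, rG]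
      rw [← QuotientGroup.mk_mul, ← QuotientGroup.mk_pow, QuotientGroup.eq_one_iff]
      have e : ((⟨sG x, sG_mem x⟩ * ⟨sG y, sG_mem y⟩ : cen2) ^ coxLabel Fi22.edges x y) = 1 :=
        Subtype.ext (sG_cox x y)
      rw [e]
      exact one_mem _
    · rw [Set.mem_ofPred_eq, extra_eq] at hr
      have key : ∀ (w : List ℕ) (n : ℕ), FreeGroup.lift rG
          ((w.map fun i => FreeGroup.of (ndG i)).prod ^ n) = val (fun i => rG (ndG i)) w ^ n := by
        intro w n
        rw [map_pow, map_list_prod, List.map_map, val]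
        congr 2
      rcases List.mem_cons.1 hr with rfl | hr
      · rw [key]
        exact val_rG_pow spider_sN (one_mem _)
      rcases List.mem_cons.1 hr with rfl | hr
      · rw [key]
        exact val_rG_pow sevenA_sN (Subgroup.mem_zpowers _)
      · rw [List.mem_singleton.1 hr, key]
        exact val_rG_pow sevenB_sN (one_mem _))

/-- a generator in the fibre product -/
noncomputable def pairS (i : ℕ) : Fi22 × Equiv.Perm (Fin 28160) := (gen i, sN i)

/-- the double cover -/
noncomputable def cover2 : Subgroup (Fi22 × Equiv.Perm (Fin 28160)) :=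
  Subgroup.closure (pairS '' {i | i < 9})

theorem cover2_spec {p : Fi22 × Equiv.Perm (Fin 28160)} (hp : p ∈ cover2) :
    ∃ h : p.2 ∈ cen2, toR p.1 = QuotientGroup.mk ⟨p.2, h⟩ := by
  induction hp using Subgroup.closure_induction with
  | mem x hx =>
    obtain ⟨i, -, rfl⟩ := hx
    exact ⟨sG_mem _, PresentedGroup.toGroup.of _⟩
  | one => exact ⟨one_mem _, map_one _⟩
  | mul x y _ _ hx hy =>
    obtain ⟨hx, ex⟩ := hx
    obtain ⟨hy, ey⟩ := hy
    exact ⟨mul_mem hx hy, by rw [Prod.fst_mul, map_mul, ex, ey]; rfl⟩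
  | inv x _ hx =>
    obtain ⟨hx, ex⟩ := hx
    exact ⟨inv_mem hx, by rw [Prod.fst_inv, map_inv, ex]; rfl⟩

/-- the projection of the double cover -/
noncomputable def proj2 : cover2 →* Fi22 := (MonoidHom.fst _ _).comp cover2.subtype

theorem pairS_mem {i : ℕ} (hi : i < 9) : pairS i ∈ cover2 := Subgroup.subset_closure ⟨i, hi, rfl⟩

theorem val_pairS (w : List ℕ) : val pairS w = (val gen w, val sN w) := by
  induction w with
  | nil => rfl
  | cons i w ih => rw [val_cons, val_cons, val_cons, ih]; rfl

theorem val_mem (w : List ℕ) (hw : ∀ i ∈ w, i < 9) : val pairS w ∈ cover2 := by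
  refine Subgroup.list_prod_mem _ fun g hg => ?_
  obtain ⟨i, hi, rfl⟩ := List.mem_map.1 hg
  exact pairS_mem (hw i hi)

theorem cover2_commutator : commutator cover2 = ⊤ := by
  let X : ℕ → cover2 := fun i => if h : i < 9 then ⟨pairS i, pairS_mem h⟩ else 1
  have hX : ∀ i < 9, (X i : Fi22 × Equiv.Perm (Fin 28160)) = pairS i := fun i hi => by simp [X, hi]
  let A : ℕ → Abelianization cover2 := fun i => Abelianization.of (X i)
  have hsq : ∀ i < 9, A i * A i = 1 := fun i hi => by
    rw [← map_mul, show X i * X i = 1 from Subtype.ext (by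
      rw [Subgroup.coe_mul, hX i hi]; exact Prod.ext (gen_sq i) (sG_sq _)), map_one]
  have hedge : ∀ i j, i < 9 → j < 9 → edgeB i j = true → A i = A j := by
    intro i j hi hj h
    have hb : sG (ndG i) * sG (ndG j) * sG (ndG i) = sG (ndG j) * sG (ndG i) * sG (ndG j) := by
      have h3 := sG_cox (ndG i) (ndG j)
      rcases label_cases (ndG i) (ndG j) with ⟨e, -⟩ | ⟨-, hl⟩ | ⟨e, -, -⟩
      · rw [e]
      · rw [hl] at h3
        have h' : (sG (ndG i) * sG (ndG j) * sG (ndG i)) *
            (sG (ndG j) * sG (ndG i) * sG (ndG j)) = 1 := by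
          rw [← h3]
          simp only [pow_succ, pow_zero, one_mul, mul_assoc]
        rw [eq_inv_of_mul_eq_one_left h', mul_inv_rev, mul_inv_rev,
          inv_eq_of_mul_eq_one_right (sG_sq (ndG i)), inv_eq_of_mul_eq_one_right (sG_sq (ndG j))]
        simp only [mul_assoc]
      · rw [posG_ndG i hi, posG_ndG j hj, h] at e
        exact absurd e (by decide)
    have e : X i * X j * X i = X j * X i * X j := Subtype.ext (by
      simp only [Subgroup.coe_mul, hX i hi, hX j hj]
      exact Prod.ext (gen_braid hi hj h) hb)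
    have e' := congrArg Abelianization.of e
    simp only [map_mul] at e'
    change A i * A j * A i = A j * A i * A j at e'
    rw [mul_right_comm, hsq i hi, one_mul, mul_right_comm, hsq j hj, one_mul] at e'
    exact e'.symm
  have hall : ∀ i < 9, A i = A 0 := by
    intro i
    induction i using Nat.strong_induction_on with
    | _ i ih =>
      intro hi
      by_cases h0 : i = 0
      · rw [h0]
      obtain ⟨hlt, he⟩ := par_lt i hi (Nat.pos_of_ne_zero h0)
      rw [← hedge _ _ (by omega) hi he]
      exact ih _ hlt (by omega)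
  have hv : ∀ w : List ℕ, (∀ i ∈ w, i < 9) →
      ((val X w : cover2) : Fi22 × Equiv.Perm (Fin 28160)) = val pairS w ∧
        Abelianization.of (val X w) = A 0 ^ w.length := by
    intro w hw
    induction w with
    | nil => exact ⟨rfl, map_one _⟩
    | cons i w ih =>
      obtain ⟨h1, h2⟩ := ih fun j hj => hw j (List.mem_cons_of_mem _ hj)
      have hi := hw i List.mem_cons_self
      refine ⟨by rw [val_cons, val_cons, Subgroup.coe_mul, h1, hX i hi], ?_⟩
      rw [val_cons, map_mul, h2, List.length_cons, pow_succ', ← hall i hi]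
  have h63 : A 0 ^ 63 = 1 := by
    obtain ⟨h1, h2⟩ := hv sevenB (by decide)
    have e : val X sevenB ^ 9 = 1 := Subtype.ext (by
      rw [SubgroupClass.coe_pow, h1, val_pairS, Prod.pow_mk, sevenB_one, sevenB_sN]; rfl)
    have e' := congrArg Abelianization.of e
    rwa [map_pow, h2, map_one, ← pow_mul] at e'
  have h0 : A 0 = 1 := by
    have h := h63
    rwa [show (63 : ℕ) = 2 * 31 + 1 from rfl, pow_succ, pow_mul, pow_two, hsq 0 (by omega), one_pow,
      one_mul] at h
  rw [← Abelianization.ker_of, eq_top_iff]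
  have hgen : (⊤ : Subgroup cover2) = Subgroup.closure (X '' {i | i < 9}) := by
    apply Subgroup.map_injective cover2.subtype_injective
    rw [← MonoidHom.range_eq_map, Subgroup.range_subtype, MonoidHom.map_closure, Set.image_image]
    exact congrArg _ (Set.image_congr fun i hi => (hX i hi).symm)
  rw [hgen, Subgroup.closure_le]
  rintro _ ⟨i, hi, rfl⟩
  exact (hall i hi).trans h0

theorem exists_stem_two : ∃ (Γ : Type) (_ : Group Γ) (σ : Γ →* Fi22),
    Cfsg.IsStemExtension σ ∧ 2 ∣ Nat.card σ.ker := by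
  refine ⟨cover2, inferInstance, proj2, ⟨?_, ?_, ?_⟩, ?_⟩
  · rw [← MonoidHom.range_eq_top, eq_top_iff, ← PresentedGroup.closure_range_of, Subgroup.closure_le]
    rintro _ ⟨x, rfl⟩
    exact ⟨⟨pairS (posG x), pairS_mem (posG_lt x)⟩, congrArg PresentedGroup.of (ndG_posG x)⟩
  · intro c hc
    have h1 : (c : Fi22 × Equiv.Perm (Fin 28160)).1 = 1 := hc
    obtain ⟨h, e⟩ := cover2_spec c.2
    rw [h1, map_one, eq_comm, QuotientGroup.eq_one_iff, mem_sgn] at e
    obtain ⟨k, hk⟩ := Subgroup.mem_zpowers_iff.1 e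
    rw [Subgroup.mem_center_iff]
    intro d
    obtain ⟨hd, -⟩ := cover2_spec d.2
    refine Subtype.ext (Prod.ext ?_ ?_)
    · simp [h1]
    · have hcomm : Commute (d : Fi22 × Equiv.Perm (Fin 28160)).2 sZ :=
        Subgroup.mem_centralizer_singleton_iff.1 hd
      simp only [Subgroup.coe_mul, Prod.snd_mul, ← hk]
      exact (hcomm.zpow_right k).eq
  · rw [cover2_commutator]
    exact le_top
  · have hm : ((1 : Fi22), sZ) ∈ cover2 := by
      have h : val pairS sevenA ^ 9 ∈ cover2 := pow_mem (val_mem _ (by decide)) 9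
      rwa [val_pairS, Prod.pow_def, sevenA_one, sevenA_sN] at h
    let z : proj2.ker := ⟨⟨((1 : Fi22), sZ), hm⟩, rfl⟩
    have hz : orderOf z = 2 := by
      refine orderOf_eq_prime (Subtype.ext (Subtype.ext ?_)) fun h => sZ_ne_one ?_
      · exact Prod.ext (one_pow 2) ((pow_two sZ).trans sZ_sq)
      · exact congrArg (fun c : proj2.ker => (c.1 : Fi22 × Equiv.Perm (Fin 28160)).2) h
    exact hz ▸ orderOf_dvd_natCard z

end CfsgLib.KnownB.Fi22Mult.Sign
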