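import Cfsg.Agent.Lib.KnownB.Fi22Mult.Perms

/-! A stem extension of `Fi₂₂` with kernel of order three. -/

set_option autoImplicit false

namespace CfsgLib.KnownB.Fi22Mult.Rep

open Cfsg.Spor

/-- the centraliser of the scalar -/
def cen : Subgroup (Equiv.Perm Vc) := Subgroup.centralizer {omP}

theorem pG_mem (x : Fi22.Gen) : pG x ∈ cen :=
  Subgroup.mem_centralizer_singleton_iff.2 (pG_omP x)

/-- the scalars inside their centraliser -/
def scal : Subgroup cen := Subgroup.zpowers ⟨omP, Subgroup.mem_centralizer_singleton_iff.2 rfl⟩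

instance scal_normal : scal.Normal := by
  constructor
  intro n hn g
  obtain ⟨k, rfl⟩ := Subgroup.mem_zpowers_iff.1 hn
  have h : Commute g (⟨omP, Subgroup.mem_centralizer_singleton_iff.2 rfl⟩ : cen) :=
    Subtype.ext (Subgroup.mem_centralizer_singleton_iff.1 g.2)
  rw [(h.zpow_right k).eq, mul_inv_cancel_right]
  exact hn

theorem mem_scal {p : Equiv.Perm Vc} (hp : p ∈ cen) :
    (⟨p, hp⟩ : cen) ∈ scal ↔ p ∈ Subgroup.zpowers omP := by
  rw [scal, Subgroup.mem_zpowers_iff, Subgroup.mem_zpowers_iff]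
  refine exists_congr fun k => ?_
  rw [Subtype.ext_iff, SubgroupClass.coe_zpow]

/-- the image of a generator modulo the scalars -/
def qG (x : Fi22.Gen) : cen ⧸ scal := QuotientGroup.mk ⟨pG x, pG_mem x⟩

theorem val_qG (w : List ℕ) : ∃ h : val pN w ∈ cen,
    val (fun i => qG (ndG i)) w = QuotientGroup.mk ⟨val pN w, h⟩ := by
  induction w with
  | nil => exact ⟨one_mem _, rfl⟩
  | cons i w ih =>
    obtain ⟨h, e⟩ := ih
    refine ⟨by rw [val_cons]; exact mul_mem (pG_mem _) h, ?_⟩
    rw [val_cons, e, qG, ← QuotientGroup.mk_mul]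
    rfl

theorem val_qG_pow {w : List ℕ} {n : ℕ} {p : Equiv.Perm Vc} (h : val pN w ^ n = p)
    (hp : p ∈ Subgroup.zpowers omP) : val (fun i => qG (ndG i)) w ^ n = 1 := by
  obtain ⟨hm, e⟩ := val_qG w
  rw [e, ← QuotientGroup.mk_pow, QuotientGroup.eq_one_iff]
  exact (mem_scal (pow_mem hm n)).2 (h ▸ hp)

/-- the map of `Fi₂₂` modulo the scalars -/
def toQ : Fi22 →* cen ⧸ scal :=
  PresentedGroup.toGroup (f := qG) (by
    rintro r (⟨x, -, y, -, rfl⟩ | hr)
    · simp only [map_pow, map_mul, FreeGroup.lift_apply_of, qG]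
      rw [← QuotientGroup.mk_mul, ← QuotientGroup.mk_pow, QuotientGroup.eq_one_iff]
      have e : ((⟨pG x, pG_mem x⟩ * ⟨pG y, pG_mem y⟩ : cen) ^ coxLabel Fi22.edges x y) = 1 :=
        Subtype.ext (pG_cox x y)
      rw [e]
      exact one_mem _
    · rw [Set.mem_ofPred_eq, extra_eq] at hr
      have key : ∀ (w : List ℕ) (n : ℕ), FreeGroup.lift qG
          ((w.map fun i => FreeGroup.of (ndG i)).prod ^ n) = val (fun i => qG (ndG i)) w ^ n := by
        intro w n
        rw [map_pow, map_list_prod, List.map_map, val]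
        congr 2
      rcases List.mem_cons.1 hr with rfl | hr
      · rw [key]
        exact val_qG_pow spider_pN (pow_mem (Subgroup.mem_zpowers _) 2)
      rcases List.mem_cons.1 hr with rfl | hr
      · rw [key]
        exact val_qG_pow sevenA_pN (one_mem _)
      · rw [List.mem_singleton.1 hr, key]
        exact val_qG_pow sevenB_pN (one_mem _))

theorem toQ_gen (i : ℕ) : toQ (gen i) = qG (ndG i) := PresentedGroup.toGroup.of _

theorem toQ_val (w : List ℕ) : toQ (val gen w) = val (fun i => qG (ndG i)) w := by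
  rw [val, map_list_prod, List.map_map, val]
  congr 1

/-- some unit vector tells the first involution from every scalar -/
def offScalar : Bool :=
  (List.range 27).any fun k =>
    !(act 0 (1 <<< k, 0) == (1 <<< k, 0)) && !(act 0 (1 <<< k, 0) == om (1 <<< k, 0)) &&
      !(act 0 (1 <<< k, 0) == om (om (1 <<< k, 0))) && !(om (1 <<< k, 0) == (1 <<< k, 0))

theorem offScalar_true : offScalar = true := by decide +kernel

theorem exists_off : ∃ u : Vc, act 0 u ≠ u ∧ act 0 u ≠ om u ∧ act 0 u ≠ om (om u) ∧ om u ≠ u := by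
  have h := offScalar_true
  simp only [offScalar, List.any_eq_true, Bool.and_eq_true, Bool.not_eq_true', beq_eq_false_iff_ne] at h
  obtain ⟨k, -, ⟨⟨h1, h2⟩, h3⟩, h4⟩ := h
  exact ⟨_, h1, h2, h3, h4⟩

theorem omP_ne_one : omP ≠ 1 := by
  intro h
  obtain ⟨u, -, -, -, hu⟩ := exists_off
  exact hu (Equiv.ext_iff.1 h u)

theorem omP_order : orderOf omP = 3 := by
  rcases (Nat.dvd_prime Nat.prime_three).1 (orderOf_dvd_of_pow_eq_one omP_cube) with h | h
  · exact absurd (orderOf_eq_one_iff.1 h) omP_ne_one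
  · exact h

theorem toQ_ne_one : toQ (gen 0) ≠ 1 := by
  intro h
  rw [toQ_gen, qG, QuotientGroup.eq_one_iff, mem_scal] at h
  have hf : IsOfFinOrder omP := isOfFinOrder_iff_pow_eq_one.2 ⟨3, by norm_num, omP_cube⟩
  obtain ⟨n, hn⟩ := Submonoid.mem_powers_iff _ _ |>.1 (hf.mem_powers_iff_mem_zpowers.2 h)
  replace hn : omP ^ (n % 3) = pG (ndG 0) := by
    rw [← hn, ← Nat.div_add_mod n 3]
    simp only [pow_add, pow_mul, omP_cube, one_pow, one_mul, Nat.mul_add_mod, Nat.mod_mod]
  obtain ⟨u, h1, h2, h3, -⟩ := exists_off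
  have e := (Equiv.ext_iff.1 hn u).symm
  rcases (by omega : n % 3 = 0 ∨ n % 3 = 1 ∨ n % 3 = 2) with c | c | c <;> rw [c] at e
  · exact h1 e
  · exact h2 e
  · exact h3 e

theorem sevenC_one (hs : IsSimpleGroup Fi22) : val gen sevenC ^ 9 = 1 := by
  rcases hs.eq_bot_or_eq_top_of_normal toQ.ker inferInstance with h | h
  · refine (MonoidHom.ker_eq_bot_iff _).1 h ?_
    rw [map_one, map_pow, toQ_val]
    exact val_qG_pow sevenC_pN (one_mem _)
  · exact absurd (MonoidHom.mem_ker.1 (h ▸ Subgroup.mem_top (gen 0))) toQ_ne_one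

/-- a generator in the fibre product -/
def pair (i : ℕ) : Fi22 × Equiv.Perm Vc := (gen i, pN i)

/-- the threefold cover -/
def cover3 : Subgroup (Fi22 × Equiv.Perm Vc) := Subgroup.closure (pair '' {i | i < 9})

theorem cover3_spec {p : Fi22 × Equiv.Perm Vc} (hp : p ∈ cover3) :
    ∃ h : p.2 ∈ cen, toQ p.1 = QuotientGroup.mk ⟨p.2, h⟩ := by
  induction hp using Subgroup.closure_induction with
  | mem x hx =>
    obtain ⟨i, -, rfl⟩ := hx
    exact ⟨pG_mem _, toQ_gen i⟩
  | one => exact ⟨one_mem _, map_one _⟩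
  | mul x y _ _ hx hy =>
    obtain ⟨hx, ex⟩ := hx
    obtain ⟨hy, ey⟩ := hy
    exact ⟨mul_mem hx hy, by rw [Prod.fst_mul, map_mul, ex, ey]; rfl⟩
  | inv x _ hx =>
    obtain ⟨hx, ex⟩ := hx
    exact ⟨inv_mem hx, by rw [Prod.fst_inv, map_inv, ex]; rfl⟩

/-- the projection of the threefold cover -/
def proj3 : cover3 →* Fi22 := (MonoidHom.fst _ _).comp cover3.subtype

theorem proj3_ker {c : cover3} (hc : c ∈ proj3.ker) :
    (c : Fi22 × Equiv.Perm Vc).1 = 1 ∧ (c : Fi22 × Equiv.Perm Vc).2 ∈ Subgroup.zpowers omP := by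
  have h1 : (c : Fi22 × Equiv.Perm Vc).1 = 1 := hc
  obtain ⟨h, e⟩ := cover3_spec c.2
  rw [h1, map_one, eq_comm, QuotientGroup.eq_one_iff, mem_scal] at e
  exact ⟨h1, e⟩

theorem pair_mem {i : ℕ} (hi : i < 9) : pair i ∈ cover3 := Subgroup.subset_closure ⟨i, hi, rfl⟩

theorem pair_braid (i j : ℕ) (hi : i < 9) (hj : j < 9) (h : edgeB i j = true) :
    pair i * pair j * pair i = pair j * pair i * pair j := by
  refine Prod.ext (gen_braid hi hj h) (Equiv.ext fun v => ?_)
  have e := (sameW_of i j hi hj).2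
  rw [h, cond_true] at e
  have := sameW_sound e v
  show act (posG (ndG i)) (act (posG (ndG j)) (act (posG (ndG i)) v)) = _
  rw [posG_ndG i hi, posG_ndG j hj]
  refine this.trans ?_
  show _ = act (posG (ndG j)) (act (posG (ndG i)) (act (posG (ndG j)) v))
  rw [posG_ndG i hi, posG_ndG j hj]
  rfl

theorem pair_sq (i : ℕ) : pair i * pair i = 1 := Prod.ext (gen_sq i) (pG_sq _)

theorem val_pair (w : List ℕ) : val pair w = (val gen w, val pN w) := by
  induction w with
  | nil => rfl
  | cons i w ih => rw [val_cons, val_cons, val_cons, ih]; rfl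

theorem cover3_commutator : commutator cover3 = ⊤ := by
  let X : ℕ → cover3 := fun i => if h : i < 9 then ⟨pair i, pair_mem h⟩ else 1
  have hX : ∀ i < 9, (X i : Fi22 × Equiv.Perm Vc) = pair i := fun i hi => by simp [X, hi]
  let A : ℕ → Abelianization cover3 := fun i => Abelianization.of (X i)
  have hsq : ∀ i < 9, A i * A i = 1 := fun i hi => by
    rw [← map_mul, show X i * X i = 1 from Subtype.ext (by rw [Subgroup.coe_mul, hX i hi, pair_sq]; rfl),
      map_one]
  have hedge : ∀ i j, i < 9 → j < 9 → edgeB i j = true → A i = A j := by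
    intro i j hi hj h
    have e : X i * X j * X i = X j * X i * X j := Subtype.ext (by
      simp only [Subgroup.coe_mul, hX i hi, hX j hj]
      exact pair_braid i j hi hj h)
    have e' := congrArg Abelianization.of e
    simp only [map_mul] at e'
    change A i * A j * A i = A j * A i * A j at e'
    rw [mul_right_comm, hsq i hi, one_mul, mul_right_comm, hsq j hj, one_mul] at e'
    exact e'.symm
  have hall : ∀ i < 9, A i = A 0 := by
    intro i
    induction i using Nat.strong_induction_on with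
    | _ i ih =>
      intro hi
      by_cases h0 : i = 0
      · rw [h0]
      obtain ⟨hlt, he⟩ := par_lt i hi (Nat.pos_of_ne_zero h0)
      rw [← hedge _ _ (by omega) hi he]
      exact ih _ hlt (by omega)
  have hv : ∀ w : List ℕ, (∀ i ∈ w, i < 9) →
      ((val X w : cover3) : Fi22 × Equiv.Perm Vc) = val pair w ∧
        Abelianization.of (val X w) = A 0 ^ w.length := by
    intro w hw
    induction w with
    | nil => exact ⟨rfl, map_one _⟩
    | cons i w ih =>
      obtain ⟨h1, h2⟩ := ih fun j hj => hw j (List.mem_cons_of_mem _ hj)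
      have hi := hw i List.mem_cons_self
      refine ⟨by rw [val_cons, val_cons, Subgroup.coe_mul, h1, hX i hi], ?_⟩
      rw [val_cons, map_mul, h2, List.length_cons, pow_succ', ← hall i hi]
  have h63 : A 0 ^ 63 = 1 := by
    obtain ⟨h1, h2⟩ := hv sevenA (by decide)
    have e : val X sevenA ^ 9 = 1 := Subtype.ext (by
      rw [SubgroupClass.coe_pow, h1, val_pair, Prod.pow_mk, sevenA_one, sevenA_pN]; rfl)
    have e' := congrArg Abelianization.of e
    rwa [map_pow, h2, map_one, ← pow_mul] at e'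
  have h0 : A 0 = 1 := by
    have h := h63
    rwa [show (63 : ℕ) = 2 * 31 + 1 from rfl, pow_succ, pow_mul, pow_two, hsq 0 (by omega), one_pow,
      one_mul] at h
  rw [← Abelianization.ker_of, eq_top_iff]
  have hgen : (⊤ : Subgroup cover3) = Subgroup.closure (X '' {i | i < 9}) := by
    apply Subgroup.map_injective cover3.subtype_injective
    rw [← MonoidHom.range_eq_map, Subgroup.range_subtype, MonoidHom.map_closure, Set.image_image]
    exact congrArg _ (Set.image_congr fun i hi => (hX i hi).symm)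
  rw [hgen, Subgroup.closure_le]
  rintro _ ⟨i, hi, rfl⟩
  exact (hall i hi).trans h0

theorem proj3_surjective : Function.Surjective proj3 := by
  rw [← MonoidHom.range_eq_top, eq_top_iff, ← PresentedGroup.closure_range_of, Subgroup.closure_le]
  rintro _ ⟨x, rfl⟩
  exact ⟨⟨pair (posG x), pair_mem (posG_lt x)⟩, congrArg PresentedGroup.of (ndG_posG x)⟩

theorem proj3_stem : Cfsg.IsStemExtension proj3 := by
  refine ⟨proj3_surjective, fun c hc => ?_, by rw [cover3_commutator]; exact le_top⟩
  obtain ⟨h1, h2⟩ := proj3_ker hc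
  rw [Subgroup.mem_center_iff]
  intro d
  obtain ⟨hd, -⟩ := cover3_spec d.2
  refine Subtype.ext (Prod.ext ?_ ?_)
  · simp [h1]
  · obtain ⟨k, hk⟩ := Subgroup.mem_zpowers_iff.1 h2
    have hcomm : Commute (d : Fi22 × Equiv.Perm Vc).2 omP :=
      Subgroup.mem_centralizer_singleton_iff.1 hd
    simp only [Subgroup.coe_mul, Prod.snd_mul, ← hk]
    exact (hcomm.zpow_right k).eq

theorem omP_mem : ((1 : Fi22), omP) ∈ cover3 := by
  have h : (val pair spiderW ^ 10) ^ 2 ∈ cover3 := by
    refine pow_mem (pow_mem (Subgroup.list_prod_mem _ fun g hg => ?_) _) _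
    obtain ⟨i, hi, rfl⟩ := List.mem_map.1 hg
    exact pair_mem ((by decide : ∀ i ∈ spiderW, i < 9) i hi)
  rw [val_pair, Prod.pow_def, Prod.pow_fst, Prod.pow_snd, spider_one, spider_pN, one_pow, ← pow_mul] at h
  have e : omP ^ (2 * 2) = omP := by rw [pow_succ' omP 3, omP_cube, mul_one]
  rwa [e] at h

theorem exists_stem_three [Finite Fi22] : ∃ (Γ : Type) (_ : Group Γ) (_ : Finite Γ) (σ : Γ →* Fi22),
    Cfsg.IsStemExtension σ ∧ 3 ∣ Nat.card σ.ker := by
  have hfin : Finite (Subgroup.zpowers omP) := Nat.finite_of_card_ne_zero (by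
    rw [Nat.card_zpowers, omP_order]; norm_num)
  have hk : Finite proj3.ker :=
    Finite.of_injective (β := Subgroup.zpowers omP)
      (fun c => ⟨(c.1 : Fi22 × Equiv.Perm Vc).2, (proj3_ker c.2).2⟩) fun c d h => by
      refine Subtype.ext (Subtype.ext (Prod.ext ?_ ?_))
      · rw [(proj3_ker c.2).1, (proj3_ker d.2).1]
      · exact congrArg Subtype.val h
  have hq : Finite (cover3 ⧸ proj3.ker) :=
    Finite.of_injective _ (QuotientGroup.kerLift_injective proj3)
  have hc : Finite cover3 :=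
    Finite.of_equiv _ (Subgroup.groupEquivQuotientProdSubgroup (s := proj3.ker)).symm
  refine ⟨cover3, inferInstance, hc, proj3, proj3_stem, ?_⟩
  let z : proj3.ker := ⟨⟨((1 : Fi22), omP), omP_mem⟩, rfl⟩
  have hz : orderOf z = 3 := by
    refine orderOf_eq_prime (Subtype.ext (Subtype.ext ?_)) fun h => omP_ne_one ?_
    · exact Prod.ext (one_pow 3) omP_cube
    · exact congrArg (fun c : proj3.ker => (c.1 : Fi22 × Equiv.Perm Vc).2) h
  exact hz ▸ orderOf_dvd_natCard z

end CfsgLib.KnownB.Fi22Mult.Rep
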