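import Cfsg.Agent.Lib.KnownB.Fi22Mult.Moves

/-! Generated reductions of words in the Weyl groups of type `E₇` and affine `E₆`. -/

set_option autoImplicit false
set_option maxRecDepth 100000

namespace CfsgLib.KnownB.Fi22Mult

/-- reduction of the square of the first `E₇` word -/
def movesA : List (ℕ × ℕ) := [(26, 0), (27, 0), (28, 0), (29, 0), (30, 0), (31, 1), (33, 0), (34, 0), (35, 0), (36, 0),
    (37, 1), (39, 0), (33, 0), (34, 0), (35, 0), (25, 0), (26, 0), (27, 0), (28, 0), (29, 1),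
    (31, 0), (32, 0), (33, 0), (20, 0), (21, 0), (22, 0), (23, 1), (25, 0), (26, 0), (27, 1),
    (29, 0), (30, 0), (31, 0), (5, 0), (6, 0), (7, 0), (8, 0), (9, 0), (10, 1), (12, 0),
    (13, 0), (14, 0), (15, 0), (16, 1), (18, 0), (19, 0), (20, 0), (21, 1), (23, 0), (24, 0),
    (25, 1), (27, 0), (28, 0), (29, 0), (4, 0), (5, 0), (6, 0), (7, 0), (8, 1), (10, 0),
    (4, 0), (5, 0), (6, 0), (3, 0), (4, 0), (2, 0), (0, 1), (2, 1), (4, 1), (6, 1),
    (8, 0), (9, 0), (10, 1), (12, 0), (13, 0), (14, 1), (16, 0), (17, 0), (18, 0), (19, 1),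
    (21, 0), (22, 0), (23, 1), (25, 0), (26, 0), (27, 0), (28, 0), (29, 1), (31, 1), (33, 1),
    (35, 1), (37, 0), (38, 0), (39, 1), (41, 0), (42, 0), (43, 1), (45, 0), (46, 0), (47, 0),
    (48, 0), (49, 1), (51, 0), (52, 0), (53, 0), (54, 0), (55, 1), (57, 0), (58, 0), (59, 0),
    (60, 0), (61, 0), (62, 2), (28, 0), (29, 0), (30, 0), (31, 0), (32, 0), (33, 0), (34, 0),
    (35, 0), (36, 1), (27, 0), (28, 0), (29, 0), (30, 0), (26, 0), (27, 0), (24, 1), (26, 0),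
    (27, 1), (29, 0), (30, 1), (32, 0), (33, 0), (34, 1), (36, 0), (37, 1), (39, 0), (40, 0),
    (41, 0), (42, 0), (43, 1), (45, 0), (39, 0), (40, 0), (41, 0), (38, 0), (39, 0), (32, 0),
    (22, 0), (23, 0), (24, 0), (25, 0), (21, 0), (20, 0), (21, 1), (23, 0), (24, 0), (25, 1),
    (27, 0), (28, 0), (29, 0), (30, 1), (32, 1), (34, 0), (35, 0), (36, 0), (37, 0), (28, 0),
    (29, 0), (30, 0), (27, 0), (9, 0), (10, 0), (11, 0), (12, 0), (13, 0), (14, 0), (15, 1),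
    (17, 0), (18, 0), (19, 0), (7, 1), (9, 0), (10, 0), (11, 0), (12, 0), (13, 1), (15, 0),
    (16, 0), (17, 0), (18, 0), (19, 1), (21, 0), (22, 0), (23, 0), (24, 0), (25, 1), (27, 1),
    (29, 0), (30, 1), (32, 0), (33, 0), (34, 0), (35, 0), (23, 0), (24, 0), (25, 0), (26, 0),
    (27, 0), (28, 0), (22, 0), (23, 0), (24, 0), (21, 0), (9, 0), (10, 0), (11, 0), (8, 0),
    (9, 0), (5, 0), (6, 0), (7, 0), (3, 0), (4, 0), (5, 0), (1, 0), (2, 0), (3, 0),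
    (4, 0), (5, 1), (7, 1), (9, 1), (11, 1), (13, 0), (14, 0), (15, 0), (16, 0), (17, 0),
    (18, 0), (19, 1), (21, 1), (23, 0), (24, 1), (26, 0), (27, 0), (28, 1), (30, 0), (31, 0),
    (32, 0), (33, 0), (34, 0), (35, 1), (37, 1), (39, 1), (41, 1), (43, 0), (44, 0), (45, 1),
    (47, 0), (48, 0), (49, 1), (51, 0), (52, 0), (53, 0), (54, 0), (55, 1), (57, 0), (58, 0),
    (59, 0), (60, 0), (61, 2), (32, 1), (34, 0), (35, 0), (36, 0), (37, 0), (38, 0), (39, 0),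
    (40, 0), (41, 0), (42, 1), (33, 0), (34, 0), (35, 0), (36, 0), (31, 0), (32, 0), (33, 0),
    (30, 0), (29, 0), (30, 1), (32, 0), (33, 1), (35, 0), (36, 1), (38, 0), (39, 0), (40, 1),
    (42, 0), (43, 1), (45, 0), (46, 0), (47, 0), (48, 0), (49, 1), (51, 0), (45, 0), (46, 0),
    (47, 0), (44, 0), (45, 0), (38, 0), (27, 0), (28, 0), (29, 0), (30, 0), (31, 0), (26, 0),
    (27, 0), (25, 0), (26, 0), (27, 1), (29, 0), (30, 0), (31, 1), (33, 0), (34, 0), (35, 0),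
    (36, 1), (38, 1), (40, 0), (41, 0), (42, 0), (43, 0), (34, 0), (35, 0), (36, 0), (33, 0),
    (23, 0), (24, 0), (14, 0), (15, 0), (16, 0), (13, 0), (14, 0), (15, 0), (16, 1), (18, 0),
    (19, 0), (20, 0), (21, 0), (22, 0), (23, 0), (24, 1), (21, 0), (22, 0), (12, 0), (13, 0),
    (14, 0), (15, 0), (16, 1), (18, 0), (19, 0), (20, 0), (21, 0), (22, 1), (24, 0), (25, 1),
    (27, 0), (28, 0), (29, 0), (30, 0), (31, 1), (33, 1), (35, 0), (36, 1), (38, 0), (39, 0),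
    (40, 0), (41, 0), (29, 0), (30, 0), (31, 0), (32, 0), (33, 0), (34, 0), (28, 0), (29, 0),
    (30, 0), (27, 0), (18, 0), (19, 0), (20, 0), (10, 0), (11, 0), (8, 0), (9, 0), (6, 0),
    (7, 0), (8, 0), (9, 1), (11, 1), (13, 0), (14, 0), (15, 0), (16, 1), (18, 0), (19, 0),
    (20, 1), (22, 0), (23, 0), (24, 0), (25, 1), (27, 1), (29, 0), (30, 1), (32, 0), (33, 0),
    (34, 1), (36, 0), (37, 0), (38, 0), (39, 0), (40, 0), (41, 1), (43, 1), (45, 1), (47, 1),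
    (49, 0), (50, 0), (51, 1), (53, 0), (54, 0), (55, 1), (57, 0), (58, 0), (59, 0), (60, 2),
    (38, 1), (40, 0), (41, 0), (42, 0), (43, 0), (44, 0), (45, 0), (46, 0), (47, 0), (48, 1),
    (39, 0), (40, 0), (41, 0), (42, 0), (37, 0), (38, 0), (39, 0), (36, 0), (35, 0), (36, 1),
    (38, 0), (39, 1), (41, 0), (42, 1), (44, 0), (45, 0), (46, 1), (48, 0), (49, 1), (51, 0),
    (52, 0), (53, 0), (54, 0), (55, 1), (57, 0), (51, 0), (52, 0), (53, 0), (50, 0), (51, 0),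
    (44, 0), (33, 0), (34, 0), (35, 0), (36, 0), (37, 0), (32, 0), (33, 0), (31, 0), (32, 0),
    (33, 1), (35, 0), (36, 0), (37, 1), (39, 0), (40, 0), (41, 0), (42, 1), (44, 1), (46, 0),
    (47, 0), (48, 0), (49, 0), (40, 0), (41, 0), (42, 0), (39, 0), (29, 0), (30, 0), (22, 1),
    (24, 0), (25, 0), (26, 0), (27, 0), (28, 0), (29, 0), (30, 1), (27, 0), (28, 0), (21, 0),
    (22, 1), (24, 0), (25, 0), (26, 0), (27, 0), (28, 1), (30, 0), (31, 1), (33, 0), (34, 0),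
    (35, 0), (36, 0), (37, 1), (39, 1), (41, 0), (42, 1), (44, 0), (45, 0), (46, 0), (47, 0),
    (35, 0), (36, 0), (37, 0), (38, 0), (39, 0), (40, 0), (34, 0), (35, 0), (36, 0), (33, 0),
    (24, 0), (25, 0), (26, 0), (10, 0), (11, 1), (13, 0), (14, 0), (15, 0), (16, 1), (18, 0),
    (19, 0), (20, 0), (21, 0), (22, 1), (24, 0), (25, 0), (26, 1), (28, 0), (29, 0), (30, 0),
    (31, 1), (33, 1), (35, 0), (36, 1), (38, 0), (39, 0), (40, 1), (42, 0), (43, 0), (44, 0),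
    (45, 0), (46, 0), (47, 1), (49, 1), (51, 1), (53, 1), (55, 0), (56, 0), (57, 1), (59, 2),
    (44, 1), (46, 0), (47, 0), (48, 0), (49, 0), (50, 0), (51, 0), (52, 0), (53, 0), (54, 1),
    (45, 0), (46, 0), (47, 0), (48, 0), (43, 0), (44, 0), (45, 0), (42, 0), (41, 0), (42, 1),
    (44, 0), (45, 1), (47, 0), (48, 1), (50, 0), (51, 0), (52, 1), (54, 0), (55, 1), (57, 0),
    (58, 2), (53, 1), (55, 0), (56, 0), (57, 2), (56, 2), (44, 0), (45, 0), (43, 0), (32, 0),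
    (12, 0), (13, 0), (14, 0), (15, 0), (16, 1), (18, 0), (19, 0), (20, 0), (21, 0), (22, 1),
    (24, 0), (25, 0), (11, 0), (12, 0), (13, 0), (14, 1), (16, 0), (17, 0), (18, 0), (19, 0),
    (20, 1), (22, 0), (23, 0), (17, 0), (18, 0), (10, 0), (11, 0), (12, 1), (14, 0), (15, 0),
    (16, 0), (3, 0), (4, 0), (5, 0), (6, 1), (8, 0), (9, 0), (10, 1), (12, 0), (13, 0),
    (14, 0), (3, 0), (4, 0), (2, 0), (0, 1), (2, 1), (4, 1), (6, 0), (7, 0), (8, 1),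
    (10, 0), (11, 0), (12, 0), (13, 0), (14, 1), (16, 1), (18, 1), (20, 0), (21, 0), (22, 0),
    (23, 1), (25, 1), (27, 0), (28, 0), (29, 0), (30, 1), (32, 1), (34, 0), (35, 0), (36, 0),
    (37, 1), (39, 0), (40, 0), (41, 1), (43, 1), (45, 1), (47, 0), (48, 0), (49, 0), (50, 0),
    (51, 0), (52, 0), (53, 0), (54, 0), (55, 2), (46, 0), (47, 0), (44, 0), (45, 0), (42, 0),
    (43, 0), (34, 0), (35, 0), (33, 0), (31, 0), (13, 0), (14, 0), (15, 0), (16, 0), (17, 0),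
    (18, 0), (19, 0), (20, 1), (22, 0), (23, 0), (12, 0), (13, 0), (14, 0), (15, 0), (16, 0),
    (17, 0), (18, 1), (20, 0), (11, 0), (12, 0), (9, 1), (11, 0), (12, 1), (14, 0), (15, 0),
    (16, 1), (18, 0), (19, 0), (20, 1), (22, 0), (23, 1), (25, 0), (26, 0), (27, 0), (28, 0),
    (29, 0), (30, 0), (31, 1), (33, 1), (35, 1), (37, 0), (38, 0), (26, 1), (28, 0), (29, 0),
    (30, 0), (31, 0), (32, 0), (33, 0), (25, 0), (26, 1), (28, 0), (29, 0), (30, 0), (22, 0),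
    (23, 0), (24, 0), (25, 0), (26, 1), (23, 0), (24, 0), (21, 0), (22, 0), (14, 0), (6, 0),
    (7, 0), (5, 0), (6, 0), (7, 1), (9, 0), (10, 0), (11, 0), (12, 1), (14, 1), (16, 0),
    (17, 0), (18, 0), (19, 0), (20, 0), (10, 0), (11, 0), (12, 0), (9, 0), (3, 0), (1, 0),
    (2, 0), (3, 1), (5, 0), (6, 0), (7, 1), (9, 1), (11, 0), (12, 1), (14, 0), (15, 0),
    (16, 0), (17, 0), (18, 0), (19, 0), (20, 1), (22, 1), (24, 1), (26, 0), (27, 1), (29, 0),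
    (30, 1), (32, 0), (33, 1), (35, 0), (36, 0), (37, 0), (38, 1), (40, 0), (41, 0), (42, 0),
    (43, 1), (45, 1), (47, 1), (49, 0), (50, 0), (51, 0), (52, 0), (53, 0), (54, 2), (48, 0),
    (46, 0), (36, 0), (37, 0), (38, 0), (39, 0), (40, 0), (41, 0), (35, 0), (34, 0), (35, 1),
    (37, 0), (32, 0), (33, 0), (31, 0), (32, 0), (33, 1), (35, 0), (36, 0), (37, 1), (39, 0),
    (40, 0), (41, 1), (43, 0), (44, 0), (45, 0), (46, 1), (48, 1), (50, 0), (51, 0), (49, 0),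
    (43, 0), (44, 0), (29, 0), (30, 0), (17, 0), (15, 1), (17, 1), (19, 0), (20, 0), (21, 0),
    (22, 0), (23, 0), (24, 0), (25, 0), (26, 0), (27, 0), (28, 0), (29, 0), (30, 1), (27, 0),
    (28, 0), (18, 0), (19, 0), (20, 0), (21, 0), (16, 0), (17, 0), (18, 0), (14, 0), (15, 0),
    (13, 0), (14, 0), (15, 1), (17, 0), (18, 1), (20, 0), (21, 1), (23, 0), (24, 0), (25, 0),
    (26, 0), (27, 0), (28, 1), (30, 0), (31, 1), (33, 0), (34, 0), (35, 0), (36, 0), (37, 1),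
    (39, 0), (40, 0), (41, 1), (43, 0), (44, 1), (46, 0), (47, 0), (35, 0), (36, 0), (37, 0),
    (38, 0), (39, 0), (40, 0), (41, 0), (42, 0), (33, 1), (35, 0), (36, 0), (37, 0), (38, 0),
    (32, 0), (33, 1), (35, 0), (36, 0), (23, 1), (25, 0), (26, 0), (27, 0), (28, 0), (29, 0),
    (30, 0), (31, 0), (20, 0), (21, 0), (22, 0), (23, 1), (25, 0), (21, 0), (19, 0), (11, 0),
    (12, 0), (13, 0), (10, 0), (11, 0), (12, 0), (13, 1), (15, 0), (16, 0), (17, 0), (18, 0),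
    (19, 1), (21, 1), (23, 0), (24, 0), (25, 1), (27, 0), (28, 0), (29, 0), (16, 0), (17, 0),
    (18, 0), (19, 0), (20, 0), (21, 0), (22, 1), (15, 0), (16, 0), (8, 0), (9, 0), (4, 0),
    (5, 0), (6, 0), (7, 0), (8, 0), (9, 1), (11, 0), (12, 0), (13, 1), (15, 0), (16, 1),
    (18, 0), (19, 0), (20, 1), (22, 0), (23, 1), (25, 0), (26, 0), (27, 0), (28, 0), (29, 1),
    (31, 1), (33, 0), (34, 0), (35, 0), (36, 1), (38, 1), (40, 0), (41, 0), (42, 1), (44, 0),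
    (45, 0), (46, 0), (47, 1), (49, 1), (51, 1), (53, 2), (52, 2), (50, 0), (51, 2), (48, 0),
    (49, 0), (50, 2), (45, 0), (46, 0), (26, 1), (28, 0), (29, 0), (30, 0), (31, 0), (32, 0),
    (33, 1), (35, 0), (36, 0), (37, 0), (38, 0), (39, 1), (41, 0), (42, 0), (43, 1), (27, 0),
    (28, 0), (29, 0), (30, 0), (31, 1), (33, 0), (25, 0), (24, 0), (25, 1), (27, 0), (28, 0),
    (29, 1), (31, 0), (32, 0), (33, 1), (35, 0), (36, 0), (37, 1), (39, 0), (40, 0), (41, 1),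
    (43, 0), (44, 1), (46, 1), (48, 0), (49, 2), (32, 0), (33, 0), (34, 0), (35, 0), (36, 0),
    (37, 0), (30, 1), (32, 0), (33, 0), (34, 0), (35, 0), (29, 0), (30, 1), (32, 0), (33, 0),
    (28, 0), (29, 0), (30, 1), (27, 0), (28, 0), (26, 0), (15, 0), (16, 0), (17, 0), (14, 0),
    (4, 0), (5, 0), (6, 1), (8, 0), (9, 0), (10, 0), (11, 0), (12, 1), (14, 1), (16, 0),
    (17, 1), (19, 0), (20, 0), (21, 0), (22, 0), (10, 0), (11, 0), (12, 0), (13, 0), (14, 0),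
    (15, 0), (9, 0), (10, 0), (11, 0), (8, 0), (2, 0), (3, 0), (4, 1), (6, 0), (0, 1),
    (2, 1), (4, 0), (5, 0), (6, 1), (8, 1), (10, 0), (11, 1), (13, 0), (14, 0), (15, 1),
    (17, 0), (18, 0), (19, 0), (20, 0), (21, 0), (22, 1), (24, 1), (26, 1), (28, 1), (30, 0),
    (31, 1), (33, 1), (35, 1), (37, 1), (39, 0), (40, 0), (41, 0), (42, 0), (43, 0), (44, 0),
    (45, 0), (46, 0), (47, 0), (48, 2), (38, 0), (39, 0), (40, 0), (36, 0), (37, 0), (38, 0),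
    (34, 0), (35, 0), (36, 0), (32, 0), (33, 0), (34, 0), (19, 1), (21, 0), (22, 0), (23, 0),
    (24, 0), (25, 0), (26, 0), (20, 0), (21, 0), (22, 0), (23, 0), (18, 0), (19, 0), (20, 0),
    (17, 0), (16, 0), (17, 1), (19, 0), (20, 1), (22, 0), (23, 1), (25, 0), (26, 1), (28, 0),
    (29, 0), (30, 0), (31, 0), (32, 0), (33, 0), (34, 1), (36, 1), (38, 1), (40, 1), (42, 0),
    (43, 0), (44, 0), (45, 0), (39, 0), (40, 1), (42, 0), (43, 0), (37, 0), (38, 0), (39, 0),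
    (40, 1), (28, 1), (30, 0), (31, 0), (32, 0), (33, 0), (34, 0), (25, 0), (26, 0), (27, 0),
    (28, 1), (30, 0), (31, 0), (26, 0), (24, 0), (14, 0), (15, 0), (16, 0), (17, 0), (18, 0),
    (13, 0), (14, 0), (12, 0), (13, 0), (14, 1), (16, 0), (17, 0), (18, 1), (20, 0), (21, 0),
    (22, 0), (23, 0), (24, 1), (26, 1), (28, 0), (29, 0), (30, 0), (31, 1), (33, 0), (34, 1),
    (36, 0), (37, 0), (38, 0), (21, 0), (22, 0), (23, 0), (24, 0), (25, 0), (26, 0), (27, 1),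
    (29, 0), (20, 0), (21, 0), (10, 0), (11, 0), (5, 0), (6, 0), (7, 0), (8, 0), (9, 0),
    (10, 0), (11, 1), (8, 0), (9, 0), (3, 1), (5, 0), (6, 0), (7, 0), (8, 0), (9, 1),
    (11, 0), (12, 1), (14, 0), (15, 0), (16, 0), (17, 0), (18, 1), (20, 0), (21, 1), (23, 0),
    (24, 0), (25, 1), (27, 0), (28, 0), (29, 1), (31, 0), (32, 0), (33, 0), (34, 1), (36, 0),
    (16, 0), (17, 0), (18, 0), (19, 0), (20, 0), (21, 0), (22, 0), (23, 0), (24, 0), (25, 0),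
    (26, 1), (15, 0), (16, 0), (17, 0), (18, 0), (14, 0), (5, 0), (6, 0), (7, 0), (1, 0),
    (2, 0), (3, 1), (5, 0), (6, 0), (7, 1), (9, 0), (10, 0), (11, 0), (12, 1), (14, 1),
    (16, 0), (17, 0), (18, 1), (20, 0), (21, 0), (22, 0), (23, 0), (24, 1), (26, 0), (27, 1),
    (29, 0), (30, 0), (31, 0), (32, 0), (33, 0), (34, 1), (36, 1), (38, 1), (40, 0), (41, 1),
    (43, 1), (45, 1), (47, 2), (46, 2), (44, 0), (45, 2), (39, 1), (41, 0), (42, 0), (43, 0),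
    (44, 2), (31, 0), (32, 0), (33, 0), (34, 0), (35, 0), (36, 0), (37, 0), (30, 0), (21, 0),
    (9, 1), (11, 0), (12, 0), (13, 0), (14, 0), (15, 1), (17, 0), (18, 0), (19, 1), (21, 1),
    (23, 0), (24, 0), (25, 0), (26, 0), (27, 0), (28, 1), (30, 1), (32, 0), (33, 0), (8, 0),
    (9, 1), (11, 0), (12, 0), (13, 1), (15, 0), (16, 0), (17, 1), (19, 0), (20, 0), (21, 1),
    (23, 0), (24, 0), (25, 0), (26, 1), (28, 0), (29, 0), (30, 1), (32, 0), (33, 1), (35, 0),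
    (36, 0), (37, 1), (39, 0), (40, 0), (41, 0), (42, 0), (43, 2), (40, 0), (41, 0), (42, 2),
    (23, 1), (25, 0), (26, 0), (27, 0), (28, 0), (29, 0), (30, 0), (22, 0), (23, 1), (25, 0),
    (26, 0), (27, 0), (28, 0), (21, 0), (22, 0), (23, 1), (25, 0), (26, 0), (20, 0), (21, 0),
    (22, 0), (23, 1), (19, 0), (20, 0), (21, 0), (18, 0), (19, 0), (17, 0), (6, 0), (7, 0),
    (8, 0), (9, 0), (10, 0), (11, 0), (12, 0), (13, 0), (14, 0), (15, 1), (17, 1), (19, 1),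
    (21, 1), (23, 0), (24, 1), (26, 1), (28, 1), (30, 1), (32, 0), (33, 0), (34, 0), (35, 0),
    (36, 0), (37, 0), (38, 0), (39, 0), (31, 0), (32, 0), (29, 0), (30, 0), (27, 0), (28, 0),
    (25, 0), (26, 0), (27, 0), (28, 1), (30, 1), (32, 1), (34, 0), (35, 0), (36, 0), (37, 0),
    (33, 0), (34, 0), (35, 0), (31, 0), (22, 1), (24, 0), (25, 0), (26, 0), (20, 0), (21, 0),
    (22, 1), (24, 0), (25, 0), (26, 1), (28, 0), (29, 0), (30, 0), (31, 1), (33, 0), (28, 0),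
    (29, 0), (18, 0), (19, 0), (20, 0), (21, 0), (22, 1), (24, 0), (25, 0), (26, 1), (28, 0),
    (29, 1), (31, 0), (14, 0), (15, 0), (16, 0), (17, 0), (13, 0), (14, 0), (15, 0), (12, 0),
    (13, 0), (5, 0), (6, 0), (7, 0), (8, 0), (9, 0), (10, 1), (12, 0), (13, 1), (15, 1),
    (17, 1), (19, 0), (20, 0), (21, 0), (22, 0), (23, 0), (24, 0), (25, 0), (26, 0), (27, 0),
    (18, 0), (16, 0), (9, 0), (10, 0), (11, 0), (4, 0), (5, 0), (6, 0), (7, 1), (9, 0),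
    (10, 0), (11, 1), (13, 0), (14, 0), (15, 0), (16, 1), (18, 1), (20, 0), (21, 0), (22, 0),
    (23, 0), (13, 0), (14, 0), (1, 0), (2, 1), (4, 0), (5, 1), (7, 0), (8, 0), (9, 0),
    (10, 0), (11, 1), (13, 0), (14, 1), (16, 0), (17, 0), (18, 1), (20, 0), (21, 0), (16, 0),
    (0, 1), (2, 0), (3, 1), (5, 0), (6, 0), (7, 0), (8, 0), (9, 0), (10, 0), (11, 1),
    (13, 0), (14, 1), (16, 1), (18, 0), (19, 0), (20, 0), (21, 1), (23, 1), (25, 0), (26, 0),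
    (27, 1), (29, 0), (30, 0), (31, 1), (33, 1), (35, 1), (37, 1), (39, 1), (41, 2), (40, 2),
    (38, 0), (39, 2), (36, 0), (37, 0), (38, 2), (34, 0), (35, 0), (36, 0), (37, 2), (32, 0),
    (33, 0), (34, 0), (35, 0), (36, 2), (30, 0), (28, 1), (30, 1), (32, 0), (33, 0), (34, 0),
    (35, 2), (34, 2), (33, 2), (32, 2), (31, 2), (29, 0), (30, 2), (27, 0), (28, 0), (29, 2),
    (28, 2), (20, 0), (21, 0), (22, 0), (23, 0), (24, 0), (19, 0), (20, 0), (21, 0), (22, 0),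
    (17, 1), (19, 0), (20, 0), (16, 0), (17, 1), (15, 0), (13, 1), (15, 1), (17, 0), (18, 1),
    (20, 1), (22, 1), (24, 1), (26, 0), (27, 2), (25, 0), (26, 2), (23, 0), (21, 0), (22, 0),
    (23, 1), (25, 2), (24, 2), (19, 0), (20, 0), (21, 0), (22, 0), (23, 2), (12, 0), (13, 0),
    (10, 1), (12, 0), (13, 1), (15, 0), (16, 0), (17, 0), (18, 0), (19, 0), (20, 0), (21, 0),
    (22, 2), (15, 1), (17, 0), (18, 0), (19, 0), (20, 0), (21, 2), (19, 0), (20, 2), (17, 1),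
    (19, 2), (18, 2), (16, 0), (17, 2), (14, 0), (15, 0), (16, 2), (13, 0), (14, 0), (15, 2),
    (13, 0), (14, 2), (8, 0), (9, 0), (10, 0), (11, 0), (7, 0), (8, 0), (9, 0), (6, 0),
    (7, 0), (2, 0), (3, 0), (4, 1), (1, 0), (2, 1), (4, 0), (5, 1), (7, 1), (9, 1),
    (11, 1), (13, 2), (12, 2), (10, 0), (11, 2), (8, 0), (9, 0), (10, 2), (6, 0), (7, 0),
    (8, 0), (9, 2), (0, 1), (2, 0), (3, 0), (4, 0), (5, 0), (6, 0), (7, 0), (8, 2),
    (2, 1), (4, 0), (5, 0), (6, 0), (7, 2), (6, 2), (5, 2), (4, 2), (3, 2), (1, 0),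
    (2, 2), (0, 0), (1, 2), (0, 2)]

/-- reduction of the square of the second `E₇` word -/
def movesB : List (ℕ × ℕ) := [(26, 0), (27, 0), (28, 0), (29, 0), (30, 0), (31, 1), (33, 0), (34, 0), (35, 0), (36, 0),
    (37, 1), (39, 0), (40, 0), (41, 0), (42, 0), (43, 1), (45, 0), (46, 0), (40, 0), (41, 0),
    (25, 0), (26, 0), (27, 0), (28, 0), (29, 1), (31, 0), (32, 0), (33, 0), (34, 0), (35, 1),
    (37, 0), (38, 0), (39, 0), (24, 0), (25, 0), (26, 0), (27, 1), (29, 0), (30, 0), (24, 0),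
    (25, 0), (23, 0), (21, 1), (23, 1), (25, 1), (27, 0), (28, 0), (29, 0), (30, 1), (32, 0),
    (33, 1), (35, 0), (36, 0), (37, 0), (24, 0), (20, 0), (21, 0), (22, 1), (24, 1), (26, 0),
    (27, 0), (28, 0), (5, 0), (6, 0), (7, 0), (8, 0), (9, 0), (10, 1), (12, 0), (13, 0),
    (14, 0), (15, 0), (16, 1), (18, 0), (19, 0), (20, 0), (4, 0), (5, 0), (6, 0), (7, 0),
    (8, 1), (10, 0), (11, 0), (12, 0), (13, 0), (14, 1), (16, 0), (17, 0), (3, 0), (4, 0),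
    (5, 0), (6, 1), (8, 0), (9, 0), (3, 0), (4, 0), (2, 0), (0, 1), (2, 1), (4, 1),
    (6, 0), (7, 0), (8, 0), (9, 1), (11, 0), (12, 1), (14, 0), (15, 0), (16, 0), (17, 1),
    (19, 0), (20, 1), (22, 0), (23, 0), (24, 1), (26, 0), (27, 0), (28, 1), (30, 0), (31, 1),
    (33, 0), (34, 0), (35, 0), (36, 0), (37, 1), (39, 1), (41, 1), (43, 0), (44, 0), (45, 0),
    (46, 1), (48, 0), (49, 1), (51, 0), (52, 0), (53, 0), (54, 0), (55, 1), (57, 0), (58, 0),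
    (59, 0), (60, 0), (61, 0), (62, 2), (27, 0), (28, 0), (29, 0), (30, 0), (31, 0), (32, 0),
    (33, 0), (34, 1), (36, 0), (37, 0), (38, 0), (39, 0), (40, 0), (41, 0), (42, 1), (44, 0),
    (26, 0), (27, 0), (28, 0), (29, 0), (30, 0), (31, 0), (32, 1), (34, 0), (35, 0), (36, 0),
    (25, 0), (23, 1), (25, 1), (27, 0), (28, 0), (29, 0), (30, 1), (32, 0), (33, 0), (21, 1),
    (23, 0), (24, 0), (25, 1), (27, 0), (28, 1), (30, 0), (31, 0), (32, 0), (33, 1), (35, 0),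
    (36, 1), (38, 0), (39, 0), (40, 1), (42, 0), (43, 0), (44, 1), (46, 0), (47, 0), (48, 0),
    (49, 1), (51, 0), (52, 0), (46, 0), (47, 0), (45, 0), (38, 0), (26, 0), (27, 0), (25, 0),
    (23, 0), (19, 0), (20, 0), (21, 0), (22, 0), (23, 1), (25, 1), (27, 1), (29, 0), (30, 0),
    (31, 0), (22, 0), (23, 0), (18, 0), (19, 0), (20, 1), (22, 0), (23, 1), (25, 0), (26, 0),
    (27, 1), (29, 0), (30, 0), (31, 1), (33, 0), (34, 0), (35, 0), (36, 1), (38, 1), (40, 0),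
    (41, 0), (42, 0), (43, 0), (34, 0), (35, 0), (36, 0), (33, 0), (8, 0), (9, 0), (10, 0),
    (11, 0), (12, 0), (13, 0), (14, 1), (16, 0), (7, 0), (8, 0), (9, 0), (10, 0), (11, 0),
    (12, 1), (14, 0), (5, 1), (7, 0), (8, 0), (9, 0), (10, 1), (12, 0), (13, 0), (14, 1),
    (16, 1), (18, 0), (19, 0), (20, 0), (21, 0), (17, 0), (15, 0), (7, 0), (8, 0), (6, 0),
    (3, 0), (4, 0), (1, 0), (2, 0), (3, 0), (4, 1), (6, 1), (8, 1), (10, 0), (11, 0),
    (12, 0), (13, 0), (14, 0), (15, 1), (17, 1), (19, 0), (20, 0), (21, 1), (23, 0), (24, 0),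
    (25, 0), (26, 0), (27, 1), (29, 0), (30, 0), (31, 1), (33, 1), (35, 0), (36, 1), (38, 0),
    (39, 0), (40, 0), (41, 0), (42, 0), (43, 1), (45, 1), (47, 1), (49, 0), (50, 0), (51, 0),
    (52, 1), (54, 0), (55, 1), (57, 0), (58, 0), (59, 0), (60, 0), (61, 2), (29, 0), (30, 0),
    (31, 0), (32, 0), (33, 0), (34, 0), (35, 0), (36, 0), (37, 0), (38, 0), (39, 1), (28, 0),
    (29, 0), (27, 0), (25, 1), (27, 1), (29, 1), (31, 0), (32, 0), (33, 0), (34, 0), (35, 0),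
    (36, 0), (37, 1), (39, 0), (40, 1), (42, 0), (43, 0), (44, 0), (45, 0), (46, 0), (47, 0),
    (48, 1), (50, 0), (41, 0), (42, 0), (30, 0), (28, 0), (23, 1), (25, 0), (26, 0), (27, 0),
    (28, 1), (30, 1), (32, 0), (33, 0), (34, 0), (35, 1), (37, 0), (38, 0), (39, 0), (25, 0),
    (26, 0), (22, 0), (23, 1), (25, 0), (26, 1), (28, 0), (29, 0), (30, 1), (32, 0), (33, 1),
    (35, 0), (36, 0), (37, 0), (38, 0), (39, 1), (41, 0), (42, 1), (44, 0), (45, 0), (46, 1),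
    (48, 0), (49, 0), (50, 1), (52, 0), (53, 0), (54, 0), (55, 1), (57, 0), (58, 0), (52, 0),
    (53, 0), (51, 0), (44, 0), (31, 0), (32, 0), (30, 0), (28, 0), (20, 0), (19, 0), (20, 1),
    (22, 0), (23, 0), (24, 0), (25, 0), (26, 0), (27, 0), (28, 1), (30, 1), (32, 1), (34, 0),
    (35, 0), (36, 0), (37, 0), (27, 0), (28, 0), (18, 0), (19, 0), (20, 1), (22, 0), (23, 0),
    (24, 0), (25, 1), (27, 0), (28, 1), (30, 0), (31, 0), (32, 1), (34, 0), (35, 0), (36, 0),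
    (37, 1), (39, 0), (40, 0), (41, 0), (42, 1), (44, 1), (46, 0), (47, 0), (48, 0), (49, 0),
    (40, 0), (41, 0), (42, 0), (39, 0), (23, 0), (24, 0), (25, 0), (26, 0), (22, 0), (16, 0),
    (17, 0), (18, 0), (19, 0), (20, 1), (22, 1), (24, 0), (25, 0), (26, 1), (28, 0), (29, 0),
    (30, 0), (31, 0), (32, 1), (34, 0), (12, 0), (10, 1), (12, 1), (14, 0), (15, 0), (13, 0),
    (11, 0), (9, 0), (10, 0), (11, 1), (13, 1), (15, 1), (17, 0), (18, 0), (19, 0), (20, 0),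
    (21, 0), (22, 0), (23, 0), (24, 0), (16, 0), (17, 0), (18, 0), (19, 0), (14, 0), (15, 0),
    (16, 0), (12, 0), (13, 0), (14, 0), (7, 0), (8, 0), (9, 0), (10, 0), (11, 0), (12, 0),
    (5, 0), (6, 0), (7, 0), (8, 0), (9, 0), (10, 0), (11, 0), (12, 1), (14, 1), (16, 1),
    (18, 0), (19, 1), (21, 0), (22, 0), (23, 0), (24, 1), (26, 0), (27, 0), (28, 0), (29, 0),
    (30, 0), (31, 0), (32, 1), (34, 1), (36, 0), (37, 1), (39, 1), (41, 0), (42, 1), (44, 0),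
    (45, 0), (46, 0), (47, 0), (48, 0), (49, 1), (51, 1), (53, 1), (55, 0), (56, 0), (57, 0),
    (58, 1), (60, 2), (33, 0), (31, 1), (33, 1), (35, 0), (36, 0), (37, 0), (38, 0), (39, 0),
    (40, 0), (41, 0), (42, 0), (43, 0), (44, 0), (45, 1), (34, 0), (35, 0), (32, 0), (33, 0),
    (30, 0), (31, 0), (29, 0), (30, 0), (31, 1), (33, 1), (35, 1), (37, 0), (38, 0), (39, 0),
    (40, 0), (41, 0), (42, 0), (43, 1), (45, 0), (46, 1), (48, 0), (49, 0), (50, 0), (51, 0),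
    (52, 0), (53, 0), (54, 1), (56, 0), (47, 0), (48, 0), (36, 0), (34, 0), (28, 0), (29, 0),
    (27, 0), (28, 0), (29, 1), (31, 0), (32, 0), (33, 0), (34, 1), (36, 1), (38, 0), (39, 0),
    (40, 0), (41, 1), (43, 0), (44, 0), (45, 0), (31, 0), (32, 0), (25, 1), (27, 0), (28, 0),
    (29, 1), (31, 0), (32, 1), (34, 0), (35, 0), (36, 1), (38, 0), (39, 1), (41, 0), (42, 0),
    (43, 0), (44, 0), (45, 1), (47, 0), (48, 1), (50, 0), (51, 0), (52, 1), (54, 0), (55, 0),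
    (56, 1), (58, 0), (59, 2), (42, 1), (44, 0), (45, 0), (46, 0), (47, 0), (48, 0), (49, 0),
    (50, 0), (51, 0), (52, 0), (53, 1), (43, 0), (44, 0), (45, 0), (41, 0), (40, 0), (41, 1),
    (43, 0), (44, 0), (45, 1), (47, 0), (48, 0), (49, 0), (50, 0), (51, 1), (53, 0), (54, 1),
    (56, 0), (57, 0), (58, 2), (52, 1), (54, 0), (55, 0), (56, 0), (57, 2), (56, 2), (44, 0),
    (45, 0), (46, 0), (43, 0), (44, 0), (42, 0), (31, 0), (32, 0), (33, 0), (30, 0), (18, 0),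
    (19, 0), (17, 0), (8, 0), (9, 1), (11, 0), (12, 0), (13, 0), (14, 0), (15, 1), (17, 1),
    (19, 1), (21, 0), (22, 0), (23, 0), (24, 0), (25, 0), (26, 0), (27, 0), (28, 1), (30, 1),
    (32, 0), (33, 1), (35, 0), (36, 0), (37, 0), (38, 0), (26, 0), (27, 0), (28, 0), (29, 0),
    (30, 0), (31, 0), (25, 0), (26, 0), (27, 0), (24, 0), (14, 0), (15, 0), (7, 1), (9, 0),
    (10, 0), (11, 0), (12, 1), (14, 0), (15, 1), (17, 0), (18, 0), (19, 1), (21, 0), (22, 0),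
    (11, 0), (12, 0), (13, 0), (2, 0), (3, 0), (4, 1), (2, 0), (0, 1), (2, 1), (4, 0),
    (5, 1), (7, 0), (8, 0), (9, 1), (11, 0), (12, 0), (13, 1), (15, 0), (16, 0), (17, 0),
    (18, 0), (19, 1), (21, 0), (22, 1), (24, 1), (26, 0), (27, 1), (29, 0), (30, 0), (31, 1),
    (33, 0), (34, 0), (35, 0), (36, 0), (37, 0), (38, 1), (40, 1), (42, 1), (44, 1), (46, 1),
    (48, 0), (49, 0), (50, 0), (51, 0), (52, 0), (53, 0), (54, 0), (55, 2), (47, 0), (45, 0),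
    (35, 0), (36, 0), (37, 0), (38, 0), (39, 0), (40, 0), (34, 0), (30, 0), (31, 0), (32, 0),
    (20, 0), (21, 0), (19, 0), (18, 0), (19, 1), (21, 1), (23, 0), (24, 0), (25, 0), (26, 0),
    (27, 0), (28, 0), (29, 0), (30, 0), (31, 0), (32, 1), (34, 1), (36, 0), (37, 0), (31, 0),
    (32, 0), (28, 0), (29, 0), (22, 0), (20, 0), (16, 0), (17, 0), (18, 0), (19, 0), (20, 1),
    (22, 1), (24, 0), (25, 0), (26, 0), (27, 0), (28, 0), (29, 1), (31, 0), (32, 1), (34, 0),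
    (28, 0), (29, 0), (30, 0), (26, 0), (16, 0), (17, 0), (18, 0), (15, 0), (14, 0), (15, 1),
    (17, 0), (18, 1), (20, 0), (21, 0), (22, 1), (24, 0), (25, 0), (26, 1), (28, 0), (29, 0),
    (30, 1), (32, 0), (33, 0), (34, 1), (36, 0), (37, 1), (39, 0), (40, 1), (42, 0), (43, 0),
    (44, 0), (45, 1), (47, 1), (49, 0), (50, 0), (51, 0), (52, 0), (42, 0), (43, 0), (33, 0),
    (34, 0), (35, 0), (31, 1), (33, 0), (34, 0), (35, 1), (37, 0), (38, 0), (39, 0), (40, 1),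
    (42, 0), (43, 1), (45, 0), (46, 0), (47, 1), (49, 0), (50, 0), (48, 0), (38, 0), (39, 0),
    (40, 0), (41, 0), (37, 0), (23, 0), (24, 0), (25, 0), (22, 0), (23, 0), (20, 0), (12, 0),
    (8, 0), (9, 0), (10, 0), (11, 0), (12, 1), (14, 0), (15, 0), (16, 0), (17, 0), (18, 0),
    (19, 0), (20, 1), (22, 0), (23, 1), (25, 1), (27, 0), (28, 0), (29, 0), (19, 0), (20, 0),
    (21, 0), (10, 0), (7, 0), (8, 0), (9, 0), (10, 1), (12, 0), (8, 0), (6, 0), (7, 0),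
    (8, 1), (10, 0), (11, 0), (12, 1), (14, 0), (15, 0), (16, 0), (17, 1), (19, 0), (20, 0),
    (21, 1), (23, 0), (24, 0), (25, 1), (27, 0), (28, 0), (29, 1), (31, 0), (32, 0), (33, 0),
    (34, 0), (35, 1), (37, 1), (39, 0), (40, 0), (41, 1), (43, 0), (44, 0), (45, 0), (46, 0),
    (33, 0), (34, 0), (35, 0), (36, 0), (37, 0), (38, 0), (39, 0), (32, 0), (33, 0), (34, 0),
    (31, 0), (15, 0), (16, 0), (17, 0), (18, 0), (19, 0), (14, 0), (3, 1), (5, 0), (6, 0),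
    (1, 0), (2, 0), (3, 1), (5, 0), (6, 1), (8, 0), (9, 0), (10, 0), (11, 0), (12, 1),
    (14, 1), (16, 0), (17, 0), (18, 0), (19, 1), (21, 0), (22, 0), (23, 0), (24, 0), (25, 1),
    (27, 0), (28, 0), (29, 1), (31, 1), (33, 0), (34, 1), (36, 0), (37, 0), (38, 0), (39, 1),
    (41, 0), (42, 0), (43, 0), (44, 0), (45, 0), (46, 1), (48, 1), (50, 1), (52, 1), (54, 2),
    (53, 2), (51, 0), (52, 2), (49, 0), (50, 0), (51, 2), (47, 0), (48, 0), (49, 0), (50, 2),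
    (43, 0), (26, 0), (27, 0), (28, 0), (25, 0), (26, 0), (24, 0), (23, 0), (24, 1), (26, 1),
    (28, 1), (30, 0), (31, 0), (32, 0), (33, 0), (34, 0), (35, 0), (36, 1), (38, 0), (39, 0),
    (40, 0), (41, 1), (43, 1), (45, 0), (46, 0), (44, 0), (29, 0), (27, 0), (10, 0), (11, 0),
    (12, 0), (13, 0), (14, 0), (15, 0), (16, 1), (18, 0), (19, 0), (20, 0), (21, 1), (8, 1),
    (10, 0), (11, 0), (12, 0), (13, 0), (14, 1), (16, 0), (17, 0), (18, 0), (19, 1), (21, 0),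
    (22, 1), (24, 0), (25, 0), (26, 0), (27, 1), (29, 1), (31, 0), (32, 0), (33, 0), (34, 1),
    (36, 0), (37, 0), (38, 0), (39, 1), (41, 0), (42, 0), (24, 0), (25, 0), (7, 0), (8, 1),
    (10, 0), (11, 0), (12, 1), (14, 0), (15, 0), (16, 0), (17, 1), (19, 0), (20, 0), (21, 0),
    (22, 1), (24, 0), (25, 1), (27, 0), (28, 0), (29, 1), (31, 0), (32, 1), (34, 0), (35, 0),
    (36, 0), (37, 1), (39, 0), (40, 0), (41, 0), (42, 1), (44, 1), (46, 1), (48, 0), (49, 2),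
    (35, 0), (36, 0), (37, 0), (38, 0), (34, 0), (35, 0), (36, 0), (33, 0), (34, 0), (32, 0),
    (15, 0), (16, 0), (17, 0), (18, 0), (14, 0), (15, 0), (16, 0), (13, 0), (14, 0), (12, 0),
    (5, 0), (6, 0), (7, 0), (8, 0), (9, 0), (10, 1), (12, 1), (14, 1), (16, 1), (18, 1),
    (20, 0), (21, 0), (22, 0), (23, 0), (24, 0), (25, 0), (26, 0), (27, 0), (28, 0), (29, 0),
    (30, 1), (32, 1), (34, 1), (36, 1), (38, 1), (40, 0), (41, 0), (42, 0), (43, 0), (44, 0),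
    (45, 0), (46, 0), (39, 0), (40, 0), (41, 0), (37, 0), (29, 0), (30, 0), (31, 0), (32, 0),
    (28, 0), (29, 0), (26, 0), (17, 0), (18, 1), (20, 0), (21, 0), (22, 0), (23, 0), (24, 0),
    (25, 0), (26, 1), (28, 0), (29, 1), (31, 0), (32, 1), (34, 0), (35, 0), (36, 0), (37, 1),
    (34, 0), (35, 0), (25, 0), (26, 0), (27, 0), (15, 0), (16, 0), (17, 0), (18, 1), (20, 0),
    (21, 0), (22, 0), (23, 1), (25, 0), (26, 0), (27, 1), (29, 0), (30, 0), (31, 0), (32, 1),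
    (34, 0), (35, 1), (37, 0), (38, 1), (40, 0), (41, 1), (43, 0), (44, 0), (30, 0), (31, 0),
    (32, 0), (33, 0), (29, 0), (13, 0), (14, 0), (15, 0), (16, 0), (17, 0), (18, 1), (20, 0),
    (21, 1), (23, 0), (24, 0), (25, 0), (26, 0), (27, 1), (29, 1), (31, 0), (32, 0), (33, 1),
    (35, 0), (36, 0), (37, 0), (38, 1), (40, 0), (41, 1), (35, 1), (37, 0), (38, 0), (39, 0),
    (34, 0), (35, 1), (37, 0), (20, 0), (21, 0), (22, 0), (23, 0), (24, 0), (19, 0), (9, 0),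
    (10, 0), (4, 0), (5, 0), (6, 0), (7, 1), (9, 0), (10, 1), (12, 0), (13, 0), (14, 0),
    (15, 0), (16, 0), (17, 1), (19, 1), (21, 0), (22, 0), (23, 0), (24, 1), (26, 0), (27, 0),
    (28, 0), (29, 0), (30, 1), (32, 0), (33, 0), (2, 1), (4, 0), (5, 1), (7, 0), (8, 0),
    (9, 0), (10, 1), (12, 0), (13, 0), (14, 0), (15, 1), (17, 0), (18, 0), (19, 1), (21, 0),
    (22, 0), (23, 0), (24, 1), (26, 0), (27, 0), (28, 1), (30, 0), (31, 0), (26, 0), (0, 1),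
    (2, 0), (3, 1), (5, 0), (6, 0), (7, 0), (8, 0), (9, 0), (10, 1), (12, 0), (13, 1),
    (15, 0), (16, 0), (17, 0), (18, 0), (19, 1), (21, 0), (22, 0), (23, 0), (24, 1), (26, 1),
    (28, 0), (29, 0), (30, 0), (31, 1), (33, 1), (35, 0), (36, 0), (37, 1), (39, 1), (41, 0),
    (42, 1), (44, 1), (46, 1), (48, 2), (47, 2), (45, 0), (46, 2), (40, 1), (42, 0), (43, 0),
    (44, 0), (45, 2), (36, 0), (37, 0), (38, 0), (34, 1), (36, 0), (37, 0), (38, 1), (40, 0),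
    (41, 0), (42, 0), (43, 0), (44, 2), (21, 0), (22, 0), (23, 0), (24, 0), (25, 0), (26, 0),
    (27, 0), (28, 0), (20, 0), (21, 0), (22, 0), (19, 0), (20, 0), (18, 0), (7, 0), (8, 0),
    (9, 0), (10, 0), (11, 0), (12, 0), (13, 0), (14, 0), (15, 0), (16, 1), (18, 1), (20, 1),
    (22, 1), (24, 0), (25, 0), (26, 0), (27, 0), (28, 1), (30, 0), (31, 0), (32, 0), (33, 0),
    (34, 0), (35, 0), (36, 0), (29, 0), (30, 0), (31, 0), (23, 0), (21, 0), (15, 0), (16, 0),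
    (6, 0), (2, 0), (3, 0), (4, 1), (6, 1), (8, 0), (9, 0), (10, 0), (11, 0), (12, 0),
    (13, 1), (15, 0), (16, 1), (18, 0), (19, 0), (20, 0), (21, 1), (23, 1), (25, 0), (26, 0),
    (27, 0), (18, 0), (19, 0), (1, 0), (2, 1), (4, 0), (5, 0), (6, 1), (8, 0), (9, 0),
    (10, 0), (11, 1), (13, 0), (14, 0), (15, 0), (16, 1), (18, 0), (19, 1), (21, 0), (22, 0),
    (23, 1), (25, 0), (26, 0), (27, 1), (29, 0), (30, 0), (31, 1), (33, 0), (34, 0), (35, 0),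
    (36, 1), (38, 0), (39, 0), (40, 0), (41, 0), (42, 0), (43, 2), (40, 0), (41, 0), (42, 2),
    (41, 2), (40, 2), (39, 2), (38, 2), (37, 2), (36, 2), (35, 2), (25, 0), (26, 0), (27, 0),
    (28, 0), (24, 0), (25, 0), (23, 0), (22, 0), (23, 1), (25, 1), (27, 0), (28, 1), (30, 0),
    (31, 0), (32, 0), (29, 0), (30, 0), (21, 0), (20, 0), (21, 1), (23, 0), (24, 0), (25, 1),
    (27, 0), (28, 0), (23, 0), (19, 0), (20, 0), (21, 1), (23, 1), (25, 0), (26, 0), (8, 1),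
    (10, 0), (11, 0), (12, 0), (13, 0), (14, 0), (15, 0), (16, 0), (17, 1), (19, 0), (20, 0),
    (21, 0), (7, 0), (8, 1), (10, 0), (11, 0), (12, 0), (13, 0), (14, 0), (15, 1), (17, 0),
    (18, 0), (6, 0), (7, 0), (8, 1), (10, 0), (11, 0), (12, 0), (13, 1), (15, 0), (16, 0),
    (5, 0), (6, 0), (7, 0), (8, 1), (10, 0), (11, 1), (13, 0), (14, 0), (15, 0), (16, 1),
    (18, 1), (20, 0), (21, 1), (23, 0), (24, 0), (25, 0), (26, 1), (28, 1), (30, 1), (32, 1),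
    (34, 2), (33, 2), (31, 0), (32, 2), (29, 0), (30, 0), (31, 2), (27, 0), (28, 0), (29, 0),
    (30, 2), (15, 0), (16, 0), (17, 0), (18, 0), (19, 0), (14, 0), (15, 0), (12, 1), (14, 0),
    (15, 1), (17, 0), (18, 0), (19, 1), (21, 0), (22, 0), (23, 0), (24, 0), (25, 0), (26, 0),
    (27, 0), (28, 0), (29, 2), (23, 0), (24, 0), (22, 0), (21, 0), (22, 1), (24, 1), (26, 0),
    (27, 0), (28, 2), (27, 2), (26, 2), (25, 2), (23, 0), (24, 2), (20, 0), (21, 0), (22, 0),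
    (23, 2), (19, 0), (20, 0), (21, 0), (22, 2), (21, 2), (19, 0), (20, 2), (17, 1), (19, 2),
    (18, 2), (16, 0), (17, 2), (15, 0), (16, 2), (0, 1), (2, 0), (3, 0), (4, 1), (6, 0),
    (7, 0), (8, 0), (9, 0), (10, 0), (11, 0), (12, 0), (13, 0), (14, 0), (15, 2), (13, 0),
    (14, 2), (9, 0), (10, 0), (11, 0), (8, 0), (9, 0), (3, 0), (4, 0), (5, 0), (6, 1),
    (2, 0), (3, 0), (4, 1), (6, 0), (7, 1), (9, 1), (11, 1), (13, 2), (12, 2), (10, 0),
    (11, 2), (8, 0), (9, 0), (10, 2), (1, 0), (2, 1), (4, 0), (5, 0), (6, 0), (7, 0),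
    (8, 0), (9, 2), (0, 1), (2, 0), (3, 0), (4, 0), (5, 0), (6, 0), (7, 0), (8, 2),
    (3, 1), (5, 0), (6, 0), (7, 2), (6, 2), (5, 2), (4, 2), (2, 0), (3, 2), (1, 0),
    (2, 2), (0, 0), (1, 2), (0, 2)]

/-- three conjugators of the spider word -/
def conjS : List (List ℕ) := [[], [8, 7, 5, 2], [3, 4, 2, 3]]

/-- reduction of the product of the three conjugates -/
def movesS : List (ℕ × ℕ) := [(89, 2), (88, 2), (86, 0), (87, 2), (86, 1), (88, 2), (83, 0), (84, 0), (81, 1), (83, 0),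
    (84, 1), (86, 0), (87, 2), (86, 2), (83, 0), (84, 0), (85, 2), (77, 0), (78, 0), (79, 0),
    (80, 0), (81, 0), (82, 0), (83, 0), (84, 2), (81, 0), (74, 0), (75, 0), (76, 0), (77, 0),
    (78, 0), (79, 1), (81, 1), (83, 2), (78, 0), (79, 0), (80, 0), (81, 0), (77, 0), (78, 0),
    (72, 1), (74, 0), (75, 1), (77, 0), (78, 1), (80, 0), (81, 1), (83, 2), (80, 0), (81, 0),
    (79, 0), (71, 0), (72, 0), (73, 0), (74, 0), (75, 0), (76, 0), (77, 1), (79, 1), (81, 1),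
    (83, 2), (82, 0), (83, 2), (72, 1), (74, 0), (75, 0), (76, 0), (77, 0), (71, 0), (72, 1),
    (74, 0), (70, 0), (59, 0), (60, 0), (61, 0), (62, 0), (63, 0), (64, 0), (65, 0), (66, 1),
    (68, 1), (70, 1), (72, 0), (73, 0), (74, 1), (76, 0), (77, 1), (79, 0), (80, 0), (81, 0),
    (82, 2), (79, 0), (80, 0), (81, 0), (64, 0), (65, 0), (66, 0), (67, 0), (68, 0), (69, 0),
    (70, 0), (71, 1), (62, 1), (64, 0), (65, 0), (57, 1), (59, 0), (60, 0), (61, 0), (62, 1),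
    (64, 0), (65, 1), (67, 0), (68, 0), (69, 1), (71, 0), (72, 1), (74, 0), (75, 0), (76, 0),
    (77, 1), (79, 0), (80, 0), (81, 1), (83, 2), (82, 0), (83, 2), (70, 1), (72, 0), (73, 0),
    (74, 0), (75, 0), (76, 0), (77, 1), (79, 0), (80, 0), (81, 0), (82, 2), (78, 0), (79, 0),
    (80, 0), (81, 2), (74, 0), (75, 0), (76, 0), (77, 0), (78, 1), (69, 0), (70, 1), (72, 0),
    (73, 0), (74, 1), (76, 0), (72, 0), (67, 0), (68, 0), (69, 0), (70, 1), (72, 1), (74, 0),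
    (75, 0), (76, 1), (78, 0), (79, 1), (81, 0), (82, 0), (71, 0), (67, 0), (68, 0), (69, 1),
    (71, 1), (73, 0), (64, 0), (65, 0), (66, 0), (67, 0), (68, 0), (69, 0), (63, 0), (61, 1),
    (63, 1), (65, 0), (66, 0), (64, 0), (62, 0), (56, 0), (57, 0), (58, 0), (59, 0), (60, 0),
    (61, 0), (62, 1), (64, 1), (66, 1), (68, 0), (69, 1), (71, 0), (72, 0), (73, 1), (65, 0),
    (61, 0), (62, 0), (63, 1), (65, 1), (67, 0), (68, 0), (69, 0), (70, 1), (53, 0), (54, 0),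
    (55, 0), (56, 0), (57, 1), (51, 1), (53, 0), (54, 0), (55, 1), (57, 0), (58, 1), (60, 0),
    (61, 0), (53, 0), (41, 0), (42, 0), (43, 0), (44, 0), (45, 0), (46, 0), (47, 0), (48, 1),
    (50, 0), (51, 1), (53, 1), (55, 0), (56, 0), (57, 0), (58, 1), (60, 0), (61, 1), (63, 0),
    (64, 0), (65, 1), (67, 0), (68, 1), (70, 0), (71, 1), (73, 0), (74, 1), (76, 0), (77, 0),
    (78, 0), (79, 1), (81, 0), (82, 1), (84, 2), (76, 1), (78, 0), (79, 0), (80, 0), (75, 0),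
    (76, 1), (78, 0), (79, 0), (80, 1), (82, 0), (83, 2), (82, 2), (69, 1), (71, 0), (72, 0),
    (73, 0), (74, 0), (75, 0), (68, 0), (69, 1), (71, 0), (67, 0), (68, 0), (69, 1), (71, 1),
    (73, 0), (66, 0), (64, 1), (66, 1), (68, 0), (69, 0), (62, 1), (64, 0), (65, 0), (66, 1),
    (68, 0), (69, 1), (71, 0), (55, 1), (57, 0), (58, 0), (59, 0), (54, 0), (55, 1), (57, 0),
    (58, 0), (59, 1), (61, 0), (62, 0), (63, 0), (60, 0), (53, 0), (54, 0), (55, 1), (57, 0),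
    (58, 0), (52, 0), (53, 0), (51, 0), (43, 0), (44, 0), (45, 0), (46, 0), (47, 0), (48, 0),
    (49, 1), (51, 1), (53, 1), (55, 0), (56, 0), (57, 0), (58, 1), (60, 1), (62, 0), (63, 1),
    (65, 0), (66, 0), (67, 0), (45, 0), (46, 0), (47, 0), (48, 0), (49, 0), (50, 0), (51, 0),
    (52, 0), (53, 0), (54, 1), (56, 0), (43, 1), (45, 0), (46, 0), (47, 0), (48, 0), (39, 1),
    (41, 0), (42, 0), (43, 1), (45, 0), (41, 0), (29, 0), (30, 0), (31, 0), (32, 0), (33, 0),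
    (34, 0), (35, 0), (36, 1), (38, 0), (39, 1), (41, 1), (43, 0), (44, 0), (45, 1), (47, 0),
    (48, 1), (50, 0), (51, 0), (52, 1), (54, 0), (55, 0), (56, 1), (58, 0), (59, 0), (60, 1),
    (62, 0), (63, 1), (65, 0), (66, 0), (67, 1), (69, 0), (70, 0), (71, 1), (73, 1), (75, 1),
    (77, 0), (78, 0), (79, 0), (80, 0), (81, 2), (66, 0), (67, 0), (68, 0), (65, 0), (66, 0),
    (64, 0), (62, 1), (64, 1), (66, 1), (68, 1), (70, 0), (71, 0), (72, 0), (73, 0), (74, 0),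
    (75, 0), (76, 1), (78, 0), (79, 0), (80, 0), (69, 0), (70, 0), (67, 0), (65, 0), (66, 0),
    (67, 1), (69, 0), (70, 1), (72, 0), (73, 0), (74, 1), (76, 0), (77, 0), (72, 0), (61, 0),
    (62, 0), (59, 1), (61, 0), (62, 1), (64, 0), (65, 0), (57, 1), (59, 0), (60, 0), (61, 0),
    (62, 1), (64, 0), (65, 1), (67, 0), (68, 0), (69, 0), (70, 1), (72, 1), (74, 0), (75, 0),
    (68, 0), (69, 0), (70, 0), (67, 0), (44, 0), (45, 0), (46, 0), (47, 0), (48, 0), (49, 0),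
    (42, 1), (44, 0), (45, 0), (46, 0), (41, 0), (42, 1), (44, 0), (40, 0), (38, 1), (40, 1),
    (42, 0), (43, 0), (44, 1), (46, 1), (48, 0), (49, 1), (51, 0), (52, 0), (53, 0), (54, 0),
    (55, 0), (34, 0), (35, 0), (36, 0), (37, 0), (38, 0), (39, 0), (40, 0), (41, 1), (32, 1),
    (34, 0), (35, 0), (27, 1), (29, 0), (30, 0), (31, 0), (32, 1), (34, 0), (35, 1), (37, 0),
    (38, 0), (39, 1), (41, 0), (42, 1), (44, 0), (45, 0), (46, 1), (48, 0), (49, 1), (51, 0),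
    (52, 0), (53, 0), (54, 0), (55, 1), (57, 0), (58, 0), (59, 0), (60, 0), (61, 0), (62, 1),
    (64, 0), (65, 1), (67, 1), (69, 0), (70, 1), (72, 0), (73, 0), (74, 0), (75, 1), (77, 1),
    (79, 0), (80, 1), (82, 2), (74, 0), (75, 0), (76, 0), (77, 0), (78, 0), (73, 0), (74, 0),
    (71, 1), (73, 0), (74, 1), (76, 0), (77, 0), (78, 1), (80, 0), (81, 2), (80, 2), (76, 0),
    (77, 0), (78, 0), (79, 2), (73, 0), (74, 0), (75, 0), (76, 0), (77, 0), (78, 2), (74, 0),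
    (75, 0), (73, 0), (63, 0), (64, 0), (62, 0), (60, 1), (62, 1), (64, 1), (66, 0), (67, 0),
    (68, 0), (69, 0), (70, 0), (71, 0), (72, 0), (73, 1), (75, 1), (77, 2), (72, 0), (73, 0),
    (74, 0), (75, 0), (68, 0), (67, 0), (68, 1), (70, 0), (71, 0), (72, 0), (59, 0), (60, 0),
    (61, 0), (62, 0), (63, 0), (64, 0), (65, 1), (67, 0), (68, 1), (64, 0), (65, 0), (66, 0),
    (62, 0), (57, 1), (59, 0), (60, 0), (61, 0), (62, 1), (64, 0), (59, 0), (60, 0), (56, 0),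
    (57, 1), (59, 0), (60, 1), (62, 0), (63, 0), (64, 1), (66, 1), (68, 0), (69, 1), (71, 0),
    (72, 1), (74, 0), (75, 1), (77, 2), (74, 0), (75, 0), (73, 0), (52, 0), (51, 0), (52, 1),
    (54, 0), (55, 0), (56, 0), (57, 0), (58, 0), (53, 0), (54, 0), (50, 0), (51, 0), (52, 0),
    (47, 0), (48, 0), (40, 1), (42, 0), (43, 0), (44, 0), (45, 0), (46, 0), (47, 0), (48, 1),
    (50, 0), (51, 0), (52, 1), (54, 1), (56, 0), (57, 0), (58, 1), (60, 0), (61, 0), (62, 0),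
    (63, 0), (47, 0), (48, 0), (49, 0), (46, 0), (47, 0), (48, 0), (49, 1), (39, 0), (40, 1),
    (42, 0), (43, 0), (44, 1), (46, 0), (47, 0), (38, 0), (39, 0), (40, 1), (42, 1), (44, 0),
    (45, 0), (46, 0), (47, 1), (49, 0), (50, 1), (52, 0), (53, 0), (54, 1), (56, 0), (57, 0),
    (58, 1), (60, 0), (61, 0), (52, 0), (41, 0), (37, 0), (38, 0), (39, 1), (41, 1), (43, 0),
    (44, 0), (34, 0), (35, 0), (36, 0), (37, 0), (38, 0), (39, 0), (33, 0), (31, 1), (33, 1),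
    (35, 0), (36, 0), (34, 0), (32, 0), (26, 0), (27, 0), (28, 0), (29, 0), (30, 0), (31, 0),
    (32, 1), (34, 1), (36, 1), (38, 0), (39, 1), (41, 0), (42, 0), (43, 0), (44, 1), (35, 0),
    (31, 0), (32, 0), (33, 1), (35, 1), (37, 0), (38, 0), (39, 0), (40, 1), (42, 0), (23, 0),
    (24, 0), (25, 0), (26, 0), (27, 1), (21, 1), (23, 0), (24, 0), (25, 1), (27, 0), (28, 1),
    (30, 0), (31, 0), (23, 0), (11, 0), (12, 0), (13, 0), (14, 0), (15, 0), (16, 0), (17, 0),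
    (18, 1), (20, 0), (21, 1), (23, 1), (25, 0), (26, 0), (27, 0), (28, 1), (30, 0), (31, 1),
    (33, 0), (34, 0), (35, 1), (37, 0), (38, 1), (40, 0), (41, 0), (42, 1), (44, 0), (45, 1),
    (47, 0), (48, 0), (49, 0), (50, 1), (52, 1), (54, 0), (55, 0), (56, 0), (57, 0), (58, 1),
    (60, 0), (61, 1), (63, 1), (65, 0), (66, 0), (67, 0), (68, 0), (69, 0), (70, 0), (71, 1),
    (73, 1), (75, 1), (77, 2), (76, 0), (77, 2), (74, 0), (75, 0), (76, 0), (77, 0), (78, 1),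
    (80, 0), (81, 2), (70, 0), (71, 0), (72, 0), (73, 1), (75, 0), (76, 0), (69, 0), (70, 0),
    (71, 1), (73, 0), (66, 1), (68, 0), (69, 0), (64, 0), (65, 0), (66, 1), (68, 0), (69, 1),
    (71, 0), (72, 0), (73, 1), (75, 0), (76, 1), (78, 0), (79, 0), (80, 2), (72, 0), (73, 0),
    (74, 0), (70, 1), (72, 0), (73, 0), (74, 1), (76, 0), (77, 0), (78, 0), (79, 2), (78, 0),
    (79, 0), (80, 0), (81, 0), (76, 1), (78, 0), (79, 0), (60, 0), (61, 0), (62, 0), (63, 0),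
    (59, 0), (57, 1), (59, 1), (61, 0), (62, 0), (63, 1), (65, 0), (66, 0), (67, 0), (60, 0),
    (47, 1), (49, 0), (50, 0), (51, 0), (52, 0), (53, 1), (55, 0), (46, 0), (47, 1), (49, 0),
    (50, 0), (51, 1), (53, 0), (54, 0), (55, 1), (57, 0), (58, 0), (59, 0), (60, 1), (62, 0),
    (63, 1), (65, 0), (66, 0), (67, 1), (69, 0), (70, 0), (71, 1), (73, 0), (74, 0), (75, 0),
    (76, 1), (78, 0), (79, 1), (81, 1), (83, 2), (80, 0), (66, 0), (67, 0), (68, 0), (69, 0),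
    (70, 0), (71, 0), (72, 0), (73, 0), (65, 0), (66, 0), (67, 0), (64, 0), (62, 1), (64, 1),
    (61, 0), (62, 0), (58, 0), (59, 1), (61, 0), (62, 1), (64, 0), (65, 1), (67, 1), (69, 0),
    (70, 0), (71, 0), (72, 0), (73, 1), (75, 0), (76, 0), (77, 0), (78, 1), (80, 1), (82, 2),
    (77, 0), (78, 0), (79, 0), (80, 0), (81, 0), (82, 0), (83, 0), (76, 0), (77, 0), (74, 1),
    (76, 0), (77, 1), (79, 0), (80, 0), (81, 0), (73, 0), (74, 1), (76, 0), (77, 1), (63, 1),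
    (65, 0), (66, 0), (67, 1), (69, 0), (70, 0), (71, 1), (73, 0), (74, 0), (75, 0), (62, 0),
    (63, 1), (65, 1), (67, 0), (68, 0), (69, 0), (70, 0), (71, 1), (73, 0), (60, 1), (62, 0),
    (63, 0), (64, 0), (65, 0), (66, 1), (68, 0), (69, 0), (59, 0), (60, 1), (62, 0), (63, 0),
    (64, 1), (66, 0), (67, 0), (62, 0), (54, 0), (55, 0), (56, 1), (58, 0), (59, 0), (60, 1),
    (62, 1), (64, 0), (65, 0), (52, 1), (54, 0), (55, 0), (56, 0), (57, 0), (58, 0), (59, 0),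
    (60, 0), (51, 0), (52, 1), (54, 0), (55, 0), (56, 0), (57, 0), (49, 0), (50, 0), (51, 0),
    (52, 1), (54, 0), (55, 0), (49, 0), (50, 0), (48, 0), (46, 1), (48, 1), (50, 1), (52, 0),
    (53, 0), (41, 0), (42, 0), (43, 0), (44, 0), (45, 0), (46, 0), (47, 0), (48, 0), (39, 1),
    (41, 0), (42, 0), (43, 0), (44, 0), (45, 0), (38, 0), (39, 1), (41, 0), (37, 0), (38, 0),
    (39, 1), (41, 1), (36, 0), (34, 1), (36, 1), (38, 0), (39, 0), (32, 1), (34, 0), (35, 0),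
    (36, 1), (38, 0), (39, 1), (41, 0), (42, 1), (44, 0), (45, 1), (47, 0), (48, 1), (50, 0),
    (51, 0), (52, 0), (53, 1), (55, 1), (57, 1), (59, 0), (60, 1), (62, 0), (63, 0), (64, 0),
    (65, 1), (67, 1), (69, 1), (71, 0), (72, 0), (73, 1), (75, 1), (77, 0), (78, 1), (80, 0),
    (81, 1), (83, 1), (85, 2), (82, 0), (64, 0), (65, 0), (66, 0), (67, 0), (63, 0), (64, 0),
    (61, 1), (63, 0), (64, 1), (66, 0), (67, 1), (69, 0), (70, 0), (71, 0), (72, 0), (60, 0),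
    (61, 1), (63, 0), (64, 1), (66, 0), (67, 1), (69, 0), (70, 0), (58, 1), (60, 0), (61, 0),
    (62, 0), (57, 0), (58, 1), (60, 0), (56, 0), (38, 0), (39, 0), (37, 0), (35, 1), (37, 1),
    (39, 1), (41, 0), (42, 0), (43, 0), (44, 0), (45, 0), (46, 0), (47, 0), (48, 0), (49, 0),
    (50, 1), (52, 0), (53, 0), (54, 1), (56, 1), (58, 0), (59, 0), (60, 1), (62, 1), (64, 0),
    (65, 0), (66, 0), (67, 1), (69, 0), (70, 1), (72, 1), (74, 0), (75, 0), (76, 0), (77, 0),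
    (78, 0), (79, 0), (80, 1), (82, 1), (84, 2), (75, 1), (77, 0), (78, 0), (79, 0), (80, 0),
    (74, 0), (75, 1), (77, 0), (73, 0), (71, 0), (51, 0), (52, 0), (53, 0), (50, 0), (51, 0),
    (48, 1), (50, 0), (51, 1), (53, 1), (55, 0), (56, 0), (57, 0), (58, 0), (59, 0), (60, 0),
    (54, 0), (52, 0), (47, 0), (48, 1), (50, 0), (51, 0), (52, 1), (54, 1), (56, 0), (57, 0),
    (45, 1), (47, 0), (48, 0), (49, 0), (50, 0), (44, 0), (45, 1), (47, 0), (38, 0), (39, 1),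
    (41, 0), (42, 0), (43, 0), (36, 0), (37, 0), (38, 0), (39, 1), (41, 0), (25, 1), (27, 0),
    (28, 0), (29, 0), (24, 0), (25, 1), (27, 0), (28, 0), (29, 1), (31, 0), (32, 0), (33, 0),
    (34, 0), (35, 0), (36, 0), (37, 0), (38, 0), (39, 1), (41, 1), (43, 1), (45, 0), (46, 0),
    (47, 1), (49, 0), (50, 1), (52, 0), (53, 0), (54, 1), (56, 0), (57, 1), (59, 0), (60, 1),
    (62, 0), (63, 0), (64, 0), (65, 0), (66, 0), (67, 1), (69, 0), (70, 0), (71, 1), (73, 1),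
    (75, 0), (76, 0), (77, 1), (79, 0), (80, 1), (82, 0), (83, 2), (68, 0), (69, 0), (70, 0),
    (67, 0), (68, 0), (65, 1), (67, 0), (68, 1), (70, 1), (72, 0), (73, 0), (74, 0), (75, 0),
    (76, 0), (77, 0), (78, 0), (71, 0), (69, 0), (64, 0), (65, 1), (67, 0), (68, 0), (69, 1),
    (71, 1), (73, 0), (74, 0), (62, 1), (64, 0), (65, 0), (66, 0), (67, 0), (59, 0), (60, 0),
    (61, 0), (62, 1), (64, 0), (60, 0), (58, 0), (40, 0), (38, 1), (40, 1), (42, 0), (43, 0),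
    (44, 0), (45, 0), (46, 0), (47, 0), (48, 0), (41, 0), (39, 0), (37, 0), (38, 0), (39, 1),
    (41, 1), (43, 0), (44, 0), (32, 1), (34, 0), (35, 0), (36, 0), (37, 0), (31, 0), (32, 1),
    (34, 0), (30, 0), (23, 0), (24, 0), (25, 1), (27, 0), (28, 0), (16, 0), (17, 0), (18, 0),
    (19, 0), (20, 0), (21, 0), (22, 0), (23, 0), (24, 0), (25, 1), (27, 0), (28, 1), (30, 1),
    (32, 0), (33, 0), (34, 1), (36, 0), (37, 1), (39, 0), (40, 0), (41, 1), (43, 0), (44, 1),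
    (46, 0), (47, 0), (48, 1), (50, 0), (51, 0), (52, 0), (53, 0), (54, 1), (56, 0), (57, 0),
    (58, 1), (60, 1), (62, 0), (63, 0), (64, 1), (66, 0), (67, 1), (69, 0), (70, 0), (71, 1),
    (73, 0), (74, 1), (76, 0), (77, 0), (78, 1), (80, 0), (81, 0), (82, 2), (63, 0), (64, 0),
    (65, 0), (66, 0), (67, 0), (61, 1), (63, 0), (64, 0), (65, 0), (60, 0), (61, 1), (63, 0),
    (59, 0), (51, 0), (33, 0), (34, 0), (35, 0), (36, 0), (37, 0), (31, 1), (33, 0), (34, 0),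
    (35, 0), (30, 0), (31, 1), (33, 0), (29, 0), (21, 0), (22, 0), (20, 0), (13, 0), (14, 0),
    (15, 0), (16, 0), (17, 0), (18, 1), (20, 1), (22, 1), (24, 0), (25, 0), (26, 0), (27, 1),
    (29, 1), (31, 0), (32, 0), (33, 1), (35, 1), (37, 1), (39, 0), (40, 0), (41, 0), (42, 0),
    (43, 0), (44, 0), (45, 1), (47, 0), (48, 0), (49, 1), (51, 1), (53, 0), (54, 0), (55, 0),
    (56, 0), (57, 1), (59, 1), (61, 0), (62, 0), (63, 1), (65, 1), (67, 1), (69, 0), (70, 0),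
    (71, 0), (72, 0), (73, 0), (74, 0), (75, 1), (77, 0), (78, 0), (79, 1), (81, 2), (72, 0),
    (73, 0), (74, 0), (75, 0), (76, 0), (77, 0), (78, 0), (79, 0), (71, 0), (69, 1), (71, 1),
    (73, 0), (74, 0), (75, 0), (76, 0), (66, 0), (67, 1), (69, 0), (70, 0), (71, 1), (73, 0),
    (74, 0), (69, 0), (64, 0), (65, 0), (66, 0), (67, 1), (69, 1), (71, 0), (72, 0), (62, 0),
    (63, 0), (64, 0), (65, 0), (66, 0), (67, 0), (60, 1), (62, 0), (63, 0), (64, 0), (58, 0),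
    (59, 0), (60, 1), (62, 0), (42, 0), (43, 0), (44, 0), (45, 0), (46, 0), (47, 0), (48, 0),
    (49, 0), (41, 0), (39, 1), (41, 1), (43, 0), (44, 0), (45, 0), (46, 0), (36, 0), (37, 1),
    (39, 0), (40, 0), (41, 1), (43, 0), (44, 0), (39, 0), (34, 0), (35, 0), (36, 0), (37, 1),
    (39, 1), (41, 0), (42, 0), (32, 0), (33, 0), (34, 0), (35, 0), (36, 0), (37, 0), (30, 1),
    (32, 0), (33, 0), (34, 0), (28, 0), (29, 0), (30, 1), (32, 0), (17, 0), (18, 0), (19, 0),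
    (20, 0), (16, 0), (17, 0), (11, 1), (13, 0), (14, 1), (16, 0), (17, 1), (19, 0), (20, 1),
    (22, 0), (23, 0), (24, 0), (25, 0), (26, 0), (27, 0), (28, 0), (29, 0), (30, 1), (32, 1),
    (34, 1), (36, 0), (37, 1), (39, 0), (40, 0), (41, 0), (42, 1), (44, 1), (46, 1), (48, 0),
    (49, 1), (51, 0), (52, 0), (53, 0), (54, 0), (55, 0), (56, 0), (57, 0), (58, 0), (59, 0),
    (60, 1), (62, 1), (64, 1), (66, 0), (67, 1), (69, 0), (70, 0), (71, 0), (72, 1), (74, 1),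
    (76, 1), (78, 0), (79, 1), (81, 2), (78, 0), (79, 0), (80, 1), (82, 0), (83, 2), (77, 0),
    (78, 1), (80, 0), (81, 0), (82, 0), (83, 0), (84, 1), (86, 0), (87, 2), (71, 0), (72, 0),
    (73, 0), (74, 0), (75, 0), (76, 0), (77, 0), (78, 0), (79, 1), (81, 0), (82, 0), (70, 0),
    (71, 0), (68, 1), (70, 0), (71, 1), (73, 0), (74, 0), (75, 0), (76, 0), (77, 1), (79, 0),
    (73, 0), (74, 0), (75, 0), (66, 0), (65, 0), (66, 1), (68, 0), (69, 0), (70, 0), (71, 1),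
    (73, 0), (53, 0), (54, 0), (55, 0), (52, 0), (53, 0), (48, 0), (49, 0), (50, 1), (52, 0),
    (53, 1), (55, 1), (57, 0), (58, 0), (59, 0), (60, 0), (61, 0), (62, 0), (63, 0), (64, 0),
    (56, 0), (54, 0), (41, 0), (42, 0), (43, 0), (44, 0), (45, 0), (46, 0), (47, 0), (48, 0),
    (49, 0), (50, 1), (52, 0), (53, 0), (54, 1), (56, 1), (58, 0), (59, 0), (46, 0), (47, 1),
    (49, 0), (50, 0), (51, 0), (52, 0), (40, 0), (41, 0), (38, 1), (40, 0), (41, 1), (43, 0),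
    (44, 0), (45, 0), (46, 0), (47, 1), (49, 0), (43, 0), (44, 0), (45, 0), (36, 0), (35, 0),
    (36, 1), (38, 0), (39, 0), (40, 0), (41, 1), (43, 0), (24, 0), (25, 0), (23, 0), (22, 0),
    (23, 1), (25, 1), (27, 0), (28, 0), (29, 0), (30, 0), (31, 0), (32, 0), (33, 0), (34, 0),
    (26, 0), (24, 0), (19, 0), (20, 0), (16, 0), (17, 0), (18, 0), (19, 0), (20, 1), (22, 0),
    (23, 0), (24, 1), (26, 1), (28, 0), (29, 0), (19, 0), (20, 0), (21, 0), (22, 0), (17, 0),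
    (15, 0), (16, 0), (17, 1), (19, 0), (12, 1), (14, 0), (15, 0), (10, 0), (11, 0), (12, 1),
    (14, 0), (15, 1), (17, 0), (18, 0), (19, 1), (21, 0), (22, 1), (24, 0), (25, 0), (26, 1),
    (28, 0), (29, 1), (31, 0), (32, 0), (33, 0), (34, 1), (36, 0), (37, 0), (38, 0), (39, 0),
    (40, 0), (41, 1), (43, 1), (45, 1), (47, 0), (48, 0), (49, 1), (51, 0), (52, 1), (54, 0),
    (55, 0), (56, 1), (58, 0), (59, 1), (61, 0), (62, 0), (63, 0), (64, 1), (66, 0), (67, 0),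
    (68, 0), (69, 0), (70, 0), (71, 1), (73, 1), (75, 1), (77, 0), (78, 0), (79, 1), (81, 0),
    (82, 1), (84, 0), (85, 0), (86, 2), (78, 0), (79, 0), (80, 0), (76, 1), (78, 0), (79, 0),
    (80, 1), (82, 0), (83, 0), (84, 0), (85, 2), (72, 0), (70, 1), (72, 1), (74, 0), (75, 0),
    (76, 0), (77, 0), (78, 0), (79, 0), (80, 0), (81, 0), (82, 1), (73, 0), (74, 0), (71, 0),
    (63, 0), (64, 0), (65, 0), (66, 1), (68, 0), (69, 0), (70, 0), (71, 1), (68, 0), (69, 0),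
    (62, 0), (63, 0), (64, 1), (66, 0), (42, 0), (40, 1), (42, 1), (44, 0), (45, 0), (46, 0),
    (47, 0), (48, 0), (49, 0), (50, 0), (43, 0), (41, 0), (33, 0), (34, 0), (35, 0), (36, 1),
    (38, 0), (39, 0), (40, 0), (41, 1), (43, 1), (45, 0), (46, 0), (38, 0), (39, 0), (32, 0),
    (33, 0), (34, 1), (36, 0), (14, 0), (15, 0), (16, 0), (17, 0), (18, 0), (19, 0), (20, 0),
    (13, 0), (11, 1), (13, 1), (15, 0), (16, 0), (9, 1), (11, 0), (12, 0), (13, 1), (15, 0),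
    (16, 1), (18, 0), (19, 0), (20, 1), (22, 0), (23, 0), (24, 0), (25, 0), (26, 1), (28, 0),
    (29, 1), (31, 0), (32, 1), (34, 0), (35, 0), (36, 1), (38, 0), (39, 1), (41, 0), (42, 0),
    (43, 1), (45, 0), (46, 1), (48, 0), (49, 0), (50, 1), (52, 0), (53, 0), (54, 0), (55, 0),
    (56, 1), (58, 0), (59, 1), (61, 0), (62, 1), (64, 0), (65, 0), (66, 1), (68, 0), (69, 1),
    (71, 0), (72, 1), (74, 1), (76, 0), (77, 0), (78, 0), (79, 0), (80, 1), (82, 0), (83, 1),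
    (85, 0), (86, 0), (87, 1), (89, 0), (90, 2), (77, 0), (78, 0), (79, 0), (80, 0), (81, 0),
    (82, 0), (83, 0), (84, 1), (76, 0), (77, 0), (75, 0), (73, 0), (57, 0), (58, 0), (56, 0),
    (54, 1), (56, 1), (58, 1), (60, 0), (61, 0), (62, 0), (63, 0), (64, 0), (65, 0), (66, 0),
    (67, 0), (59, 0), (60, 0), (57, 0), (58, 0), (55, 0), (56, 0), (49, 0), (50, 0), (51, 0),
    (52, 0), (53, 0), (54, 0), (55, 0), (56, 1), (58, 1), (60, 1), (62, 0), (63, 0), (51, 1),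
    (53, 0), (54, 0), (55, 0), (56, 0), (50, 0), (51, 1), (53, 0), (48, 0), (49, 0), (47, 0),
    (27, 0), (28, 0), (26, 0), (24, 1), (26, 1), (28, 1), (30, 0), (31, 0), (32, 0), (33, 0),
    (34, 0), (35, 0), (36, 0), (37, 0), (29, 0), (30, 0), (27, 0), (28, 0), (25, 0), (26, 0),
    (19, 0), (20, 0), (21, 0), (22, 0), (23, 0), (24, 0), (25, 0), (26, 1), (28, 1), (30, 1),
    (32, 0), (33, 0), (21, 1), (23, 0), (24, 0), (25, 0), (26, 0), (20, 0), (21, 1), (23, 0),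
    (18, 0), (19, 0), (17, 0), (5, 0), (6, 0), (7, 0), (3, 1), (5, 0), (6, 0), (7, 1),
    (9, 0), (10, 0), (11, 0), (12, 0), (13, 1), (15, 0), (16, 0), (17, 1), (19, 1), (21, 0),
    (22, 0), (23, 1), (25, 0), (26, 1), (28, 0), (29, 0), (30, 1), (32, 0), (33, 1), (35, 0),
    (36, 0), (37, 1), (39, 0), (40, 0), (41, 0), (42, 0), (43, 1), (45, 0), (46, 0), (47, 1),
    (49, 1), (51, 0), (52, 0), (53, 1), (55, 0), (56, 1), (58, 0), (59, 0), (60, 1), (62, 0),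
    (63, 1), (65, 0), (66, 0), (67, 1), (69, 0), (70, 0), (71, 0), (72, 0), (73, 1), (75, 1),
    (77, 1), (79, 0), (80, 0), (81, 0), (82, 1), (84, 0), (85, 1), (87, 0), (88, 0), (89, 0),
    (90, 0), (91, 2), (88, 0), (89, 0), (90, 2), (88, 1), (90, 2), (93, 2), (92, 2), (83, 1),
    (85, 0), (86, 0), (87, 0), (88, 0), (89, 0), (90, 0), (91, 2), (86, 0), (87, 0), (88, 1),
    (90, 2), (89, 2), (79, 1), (81, 0), (82, 0), (83, 0), (84, 0), (85, 0), (86, 0), (87, 0),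
    (88, 2), (87, 2), (86, 2), (85, 2), (84, 2), (83, 2), (82, 2), (81, 2), (80, 2), (79, 2),
    (78, 2), (76, 0), (77, 2), (74, 0), (75, 0), (76, 2), (69, 1), (71, 0), (72, 0), (73, 1),
    (75, 2), (74, 2), (62, 0), (63, 0), (64, 0), (65, 0), (66, 0), (67, 0), (61, 0), (59, 1),
    (61, 1), (63, 0), (64, 0), (65, 0), (66, 0), (67, 1), (69, 0), (70, 0), (71, 0), (72, 0),
    (73, 2), (72, 2), (70, 0), (71, 2), (64, 0), (65, 0), (66, 0), (67, 0), (68, 0), (69, 0),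
    (70, 2), (65, 0), (66, 0), (67, 1), (69, 2), (68, 2), (64, 0), (65, 0), (66, 0), (67, 2),
    (66, 2), (65, 2), (64, 2), (57, 1), (59, 0), (60, 0), (61, 1), (63, 2), (62, 2), (55, 0),
    (54, 0), (55, 1), (57, 0), (58, 0), (59, 0), (60, 0), (61, 2), (60, 2), (58, 0), (59, 2),
    (52, 0), (53, 0), (54, 0), (55, 0), (56, 0), (57, 0), (58, 2), (53, 0), (54, 0), (55, 1),
    (57, 2), (56, 2), (44, 0), (45, 0), (46, 0), (43, 0), (44, 0), (41, 1), (43, 0), (44, 1),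
    (46, 1), (48, 0), (49, 0), (50, 0), (51, 0), (52, 0), (53, 0), (54, 0), (55, 2), (54, 2),
    (53, 2), (52, 2), (51, 2), (50, 2), (43, 0), (44, 0), (45, 0), (46, 0), (47, 0), (48, 0),
    (49, 2), (48, 2), (46, 0), (47, 2), (45, 0), (46, 2), (39, 1), (41, 0), (42, 0), (43, 1),
    (45, 2), (44, 2), (32, 0), (33, 0), (34, 0), (35, 0), (36, 0), (37, 0), (31, 0), (29, 1),
    (31, 1), (33, 0), (34, 0), (35, 0), (36, 0), (37, 1), (39, 0), (40, 0), (41, 0), (42, 0),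
    (43, 2), (42, 2), (40, 0), (41, 2), (34, 0), (35, 0), (36, 0), (37, 0), (38, 0), (39, 0),
    (40, 2), (35, 0), (36, 0), (37, 1), (39, 2), (38, 2), (34, 0), (35, 0), (36, 0), (37, 2),
    (36, 2), (35, 2), (34, 2), (27, 1), (29, 0), (30, 0), (31, 1), (33, 2), (32, 2), (25, 0),
    (24, 0), (25, 1), (27, 0), (28, 0), (29, 0), (30, 0), (31, 2), (30, 2), (28, 0), (29, 2),
    (22, 0), (23, 0), (24, 0), (25, 0), (26, 0), (27, 0), (28, 2), (23, 0), (24, 0), (25, 1),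
    (27, 2), (26, 2), (14, 0), (15, 0), (16, 0), (13, 0), (14, 0), (11, 1), (13, 0), (14, 1),
    (16, 1), (18, 0), (19, 0), (20, 0), (21, 0), (22, 0), (23, 0), (24, 0), (25, 2), (24, 2),
    (23, 2), (22, 2), (21, 2), (20, 2), (13, 0), (14, 0), (15, 0), (16, 0), (17, 0), (18, 0),
    (19, 2), (18, 2), (16, 0), (17, 2), (15, 0), (16, 2), (9, 1), (11, 0), (12, 0), (13, 1),
    (15, 2), (14, 2), (6, 0), (7, 0), (5, 0), (6, 0), (7, 1), (9, 0), (10, 0), (11, 0),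
    (12, 0), (13, 2), (12, 2), (10, 0), (11, 2), (2, 0), (3, 0), (4, 0), (5, 0), (6, 0),
    (7, 0), (8, 0), (9, 0), (10, 2), (5, 0), (6, 0), (7, 1), (9, 2), (8, 2), (4, 0),
    (5, 0), (6, 0), (7, 2), (6, 2), (5, 2), (4, 2), (3, 2), (1, 0), (2, 2), (1, 2),
    (0, 2)]

end CfsgLib.KnownB.Fi22Mult
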