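import Cfsg.Agent.Lib.KnownB.Fi22Mult.Pres
import Cfsg.Prelude.Def_KGroupFacts

/-! Normalised lifts of the generators of `Fi₂₂` to a central extension. -/

set_option autoImplicit false
set_option maxRecDepth 100000

namespace CfsgLib.KnownB.Fi22Mult

open Cfsg.Spor

/-- the third word of type `E₇` -/
def sevenC : List ℕ := [2, 3, 4, 5, 6, 7, 8]

variable {Γ : Type*} [Group Γ]

/-- the node before a given one -/
def parN (j : ℕ) : ℕ := [0, 0, 1, 2, 3, 4, 5, 3, 7].getD j 0

theorem edge_par : ∀ i < 9, ∀ j < 9, edgeB i j = true →
    (0 < j ∧ parN j = i) ∨ (0 < i ∧ parN i = j) := by decide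

theorem par_lt : ∀ j < 9, 0 < j → parN j < j ∧ edgeB (parN j) j = true := by decide

theorem exists_braided (σ : Γ →* Fi22) (hs : Function.Surjective σ) (hc : σ.ker ≤ Subgroup.center Γ) :
    ∃ x : ℕ → Γ, (∀ i, σ (x i) = gen i) ∧
      ∀ i j, i < 9 → j < 9 → edgeB i j = true → x i * x j * x i = x j * x i * x j := by
  have key : ∀ n ≤ 9, ∃ x : ℕ → Γ, (∀ i, σ (x i) = gen i) ∧
      ∀ j, 0 < j → j < n → x (parN j) * x j * x (parN j) = x j * x (parN j) * x j := by
    intro n
    induction n with
    | zero =>
      intro _
      exact ⟨fun i => Function.surjInv hs (gen i), fun i => Function.surjInv_eq hs _,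
        fun j _ h => absurd h (by omega)⟩
    | succ n ih =>
      intro hn
      obtain ⟨x, hx, hb⟩ := ih (by omega)
      by_cases h0 : n = 0
      · exact ⟨x, hx, fun j hj hj' => absurd hj' (by omega)⟩
      obtain ⟨hlt, hedge⟩ := par_lt n (by omega) (Nat.pos_of_ne_zero h0)
      let a := x (parN n)
      let b := x n
      obtain ⟨z, hz, hzdef⟩ : ∃ z, z ∈ σ.ker ∧ a * b * a = b * a * b * z := by
        refine ⟨(b * a * b)⁻¹ * (a * b * a), ?_, (mul_inv_cancel_left _ _).symm⟩
        rw [MonoidHom.mem_ker]
        simp only [a, b, map_mul, map_inv, hx]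
        rw [gen_braid (by omega) (by omega) hedge, inv_mul_cancel]
      have hzc : ∀ g, g * z = z * g := Subgroup.mem_center_iff.1 (hc hz)
      refine ⟨Function.update x n (b * z), fun i => ?_, fun j hj hj' => ?_⟩
      · by_cases hi : i = n
        · subst hi
          rw [Function.update_self, map_mul, MonoidHom.mem_ker.1 hz, mul_one]
          exact hx i
        · rw [Function.update_of_ne hi, hx]
      · rcases Nat.lt_succ_iff_lt_or_eq.1 hj' with h | h
        · have hp := (par_lt j (by omega) hj).1
          rw [Function.update_of_ne (by omega), Function.update_of_ne (by omega)]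
          exact hb j hj h
        · subst h
          rw [Function.update_self, Function.update_of_ne (by omega)]
          show a * (b * z) * a = b * z * a * (b * z)
          calc a * (b * z) * a = a * b * a * z := by rw [← mul_assoc, mul_assoc _ z, ← hzc, ← mul_assoc]
            _ = b * a * b * z * z := by rw [hzdef]
            _ = b * z * a * (b * z) := by
              rw [mul_assoc b z, ← hzc a, ← mul_assoc b a, ← mul_assoc, mul_assoc (b * a) z b, ← hzc b,
                ← mul_assoc (b * a)]
  obtain ⟨x, hx, hb⟩ := key 9 le_rfl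
  refine ⟨x, hx, fun i j hi hj h => ?_⟩
  rcases edge_par i hi j hj h with ⟨h0, rfl⟩ | ⟨h0, rfl⟩
  · exact hb j h0 hj
  · exact (hb i h0 hi).symm

/-- one round of deriving commuting pairs -/
def satStep (S : List (ℕ × ℕ)) : List (ℕ × ℕ) :=
  S ++ ((List.range 9).flatMap fun i => (List.range 9).filterMap fun k =>
    if !edgeB i k && !Nat.beq i k && ((List.range 9).any fun j => !edgeB i j && !Nat.beq i j && edgeB j k &&
      S.any fun p => (Nat.beq p.1 i && Nat.beq p.2 j) || (Nat.beq p.1 j && Nat.beq p.2 i))
    then some (i, k) else none)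

/-- the pairs after some rounds -/
def satN : ℕ → List (ℕ × ℕ)
  | 0 => [(0, 2)]
  | n + 1 => satStep (satN n)

theorem sat_all : ((List.range 9).all fun i => (List.range 9).all fun k => edgeB i k || Nat.beq i k ||
    (satN 10).any fun p => (Nat.beq p.1 i && Nat.beq p.2 k) || (Nat.beq p.1 k && Nat.beq p.2 i)) = true := by
  decide +kernel

theorem eq_of_chain {a b c u v : Γ} (hu : ∀ g, g * u = u * g) (hv : ∀ g, g * v = v * g)
    (h1 : a * b = u * (b * a)) (h2 : a * c = v * (c * a)) (hb : b * c * b = c * b * c) : u = v := by
  have e1 : a * (b * c * b) = u * v * u * (b * c * b * a) := by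
    calc a * (b * c * b) = a * b * c * b := by simp only [mul_assoc]
      _ = u * (b * a) * c * b := by rw [h1]
      _ = u * b * (a * c) * b := by simp only [mul_assoc]
      _ = u * b * (v * (c * a)) * b := by rw [h2]
      _ = u * (b * v) * c * (a * b) := by simp only [mul_assoc]
      _ = u * (v * b) * c * (u * (b * a)) := by rw [hv b, h1]
      _ = u * v * (b * c * u) * b * a := by simp only [mul_assoc]
      _ = u * v * (u * (b * c)) * b * a := by rw [hu (b * c)]
      _ = _ := by simp only [mul_assoc]
  have e2 : a * (c * b * c) = v * u * v * (c * b * c * a) := by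
    calc a * (c * b * c) = a * c * b * c := by simp only [mul_assoc]
      _ = v * (c * a) * b * c := by rw [h2]
      _ = v * c * (a * b) * c := by simp only [mul_assoc]
      _ = v * c * (u * (b * a)) * c := by rw [h1]
      _ = v * (c * u) * b * (a * c) := by simp only [mul_assoc]
      _ = v * (u * c) * b * (v * (c * a)) := by rw [hu c, h2]
      _ = v * u * (c * b * v) * c * a := by simp only [mul_assoc]
      _ = v * u * (v * (c * b)) * c * a := by rw [hv (c * b)]
      _ = _ := by simp only [mul_assoc]
  rw [hb, e2] at e1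
  have e3 := mul_right_cancel e1
  rw [hu v] at e3
  exact (mul_left_cancel e3).symm

theorem exists_lifts (σ : Γ →* Fi22) (hs : Function.Surjective σ) (hc : σ.ker ≤ Subgroup.center Γ)
    (hC : val gen sevenC ^ 9 = 1 ∨ val gen sevenC ^ 9 = gen 0) :
    ∃ x : ℕ → Γ, (∀ i, σ (x i) = gen i) ∧ Braided x (x 0 * x 0) := by
  obtain ⟨x, hx, hb⟩ := exists_braided σ hs hc
  have hcen : ∀ {g : Γ}, σ g = 1 → ∀ h, h * g = g * h := fun hg => Subgroup.mem_center_iff.1
    (hc (MonoidHom.mem_ker.2 hg))
  have hsqc : ∀ i g, g * (x i * x i) = x i * x i * g := fun i =>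
    hcen (by rw [map_mul, hx, gen_sq])
  have hu : ∀ i j, i < 9 → j < 9 → edgeB i j = false →
      ∃ u, (∀ g, g * u = u * g) ∧ x i * x j = u * (x j * x i) := fun i j hi hj h =>
    ⟨x i * x j * (x j * x i)⁻¹, hcen (by simp only [map_mul, map_inv, hx]; rw [gen_comm hi hj h]; group),
      by rw [inv_mul_cancel_right]⟩
  have hsq : ∀ i < 9, x i * x i = x 0 * x 0 := by
    intro i
    induction i using Nat.strong_induction_on with
    | _ i ih =>
      intro hi
      by_cases h0 : i = 0
      · rw [h0]
      obtain ⟨hlt, he⟩ := par_lt i hi (Nat.pos_of_ne_zero h0)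
      rw [← ih _ hlt (by omega)]
      have h := hb _ _ (by omega) hi he
      generalize x (parN i) = a at h ⊢
      generalize hb' : x i = b at h ⊢
      have e : b = a * b * a * (a * b)⁻¹ := by rw [h]; group
      have hbc : ∀ g, g * (b * b) = b * b * g := hb' ▸ hsqc i
      have hc1 : a * b * (a * a) = b * b * (a * b) := by
        calc a * b * (a * a) = (a * b * a) * a := by simp only [mul_assoc]
          _ = b * a * b * a := by rw [h]
          _ = b * (a * b * a) := by simp only [mul_assoc]
          _ = b * b * (a * b) := by rw [h]; simp only [mul_assoc]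
      rw [← hbc] at hc1
      exact (mul_left_cancel hc1).symm
  have hzero : x 0 * x 2 = x 2 * x 0 := by
    obtain ⟨u, huc, hu02⟩ := hu 0 2 (by norm_num) (by norm_num) (by decide)
    have hj : ∀ j ∈ sevenC, x 0 * x j = u * (x j * x 0) := by
      have step : ∀ j k, j < 9 → k < 9 → edgeB 0 k = false → edgeB j k = true →
          x 0 * x j = u * (x j * x 0) → x 0 * x k = u * (x k * x 0) := by
        intro j k hj hk h0k hjk hju
        obtain ⟨v, hvc, hv⟩ := hu 0 k (by norm_num) hk h0k
        rw [eq_of_chain huc hvc hju hv (hb j k hj hk hjk)]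
        exact hv
      have h3 := step 2 3 (by norm_num) (by norm_num) (by decide) (by decide) hu02
      have h4 := step 3 4 (by norm_num) (by norm_num) (by decide) (by decide) h3
      have h5 := step 4 5 (by norm_num) (by norm_num) (by decide) (by decide) h4
      have h6 := step 5 6 (by norm_num) (by norm_num) (by decide) (by decide) h5
      have h7 := step 3 7 (by norm_num) (by norm_num) (by decide) (by decide) h3
      have h8 := step 7 8 (by norm_num) (by norm_num) (by decide) (by decide) h7
      intro j hj
      simp only [sevenC, List.mem_cons, List.not_mem_nil, or_false] at hj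
      rcases hj with rfl | rfl | rfl | rfl | rfl | rfl | rfl
      exacts [hu02, h3, h4, h5, h6, h7, h8]
    have hw : ∀ w : List ℕ, (∀ j ∈ w, j ∈ sevenC) → x 0 * val x w = u ^ w.length * (val x w * x 0) := by
      intro w
      induction w with
      | nil => simp [val]
      | cons j w ih =>
        intro hw
        have h1 := hj j (hw j List.mem_cons_self)
        have h2 := ih fun k hk => hw k (List.mem_cons_of_mem _ hk)
        rw [val_cons, List.length_cons, pow_succ']
        calc x 0 * (x j * val x w) = u * (x j * (x 0 * val x w)) := by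
              rw [← mul_assoc, h1]; simp only [mul_assoc]
          _ = u * (x j * u ^ w.length * (val x w * x 0)) := by rw [h2]; simp only [mul_assoc]
          _ = u * (u ^ w.length * x j * (val x w * x 0)) := by
              rw [(Commute.pow_right (show Commute (x j) u from huc (x j)) w.length).eq]
          _ = _ := by simp only [mul_assoc]
    have hmem : ∀ j ∈ repW 9 sevenC, j ∈ sevenC := by decide
    have h63 := hw _ hmem
    have hcomm : x 0 * val x (repW 9 sevenC) = val x (repW 9 sevenC) * x 0 := by
      have hσ : σ (val x (repW 9 sevenC)) = val gen sevenC ^ 9 := by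
        rw [← val_repW, val, map_list_prod, List.map_map, val]
        congr 2
        funext j
        exact hx j
      rcases hC with h | h <;> rw [h] at hσ
      · exact hcen hσ (x 0)
      · have : σ ((x 0)⁻¹ * val x (repW 9 sevenC)) = 1 := by
          rw [map_mul, map_inv, hσ, hx, inv_mul_cancel]
        have e := hcen this (x 0)
        rw [mul_inv_cancel_left, mul_assoc] at e
        conv_lhs => rw [e, mul_inv_cancel_left]
    rw [hcomm, show (repW 9 sevenC).length = 63 by decide, right_eq_mul] at h63
    have hu2 : u * u = 1 := by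
      have e := hsqc 0 (x 2)
      have e' : x 0 * x 0 * x 2 = u * u * (x 2 * (x 0 * x 0)) := by
        rw [mul_assoc (x 0), hu02, ← mul_assoc (x 0), huc (x 0), mul_assoc u, ← mul_assoc (x 0) (x 2), hu02]
        simp only [mul_assoc]
      rw [← e, right_eq_mul] at e'
      exact e'
    have hu1 : u = 1 := by
      have : (u * u) ^ 31 * u = u ^ 63 := by rw [← pow_two, ← pow_mul, ← pow_succ]
      rwa [h63, hu2, one_pow, one_mul] at this
    rw [hu02, hu1, one_mul]
  have hsat : ∀ n, ∀ p ∈ satN n, x p.1 * x p.2 = x p.2 * x p.1 := by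
    intro n
    induction n with
    | zero =>
      intro p hp
      simp only [satN, List.mem_singleton] at hp
      subst hp
      exact hzero
    | succ n ih =>
      intro p hp
      simp only [satN, satStep, List.mem_append, List.mem_flatMap, List.mem_filterMap, List.mem_range,
        Option.ite_none_right_eq_some, Option.some.injEq, Bool.and_eq_true, Bool.not_eq_true',
        List.any_eq_true, Bool.or_eq_true, Nat.beq_eq] at hp
      rcases hp with hp | ⟨i, hi, k, hk, ⟨⟨hik, -⟩, j, hj, ⟨⟨hij, -⟩, hjk⟩, q, hq, hqe⟩, rfl⟩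
      · exact ih p hp
      · have hcomm : x i * x j = 1 * (x j * x i) := by
          rw [one_mul]
          rcases hqe with ⟨e1, e2⟩ | ⟨e1, e2⟩
          · rw [← e1, ← e2]; exact ih q hq
          · rw [← e1, ← e2]; exact (ih q hq).symm
        obtain ⟨v, hvc, hv⟩ := hu i k hi hk hik
        have := eq_of_chain (fun g => by rw [mul_one, one_mul]) hvc hcomm hv (hb j k hj hk hjk)
        rw [← this, one_mul] at hv
        exact hv
  refine ⟨x, hx, ⟨hb, fun i j hi hj hij hne => ?_, hsq, hsqc 0⟩⟩
  have h := List.all_eq_true.1 (List.all_eq_true.1 sat_all i (List.mem_range.2 hi)) j (List.mem_range.2 hj)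
  simp only [Bool.or_eq_true, List.any_eq_true, Bool.and_eq_true, Nat.beq_eq, hij, Bool.false_eq_true,
    false_or] at h
  obtain ⟨q, hq, hqe⟩ := h.resolve_left hne
  rcases hqe with ⟨e1, e2⟩ | ⟨e1, e2⟩
  · rw [← e1, ← e2]; exact hsat 10 q hq
  · rw [← e1, ← e2]; exact (hsat 10 q hq).symm

end CfsgLib.KnownB.Fi22Mult
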