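import Cfsg.Agent.Lib.KnownB.Fi22Mult.MatData
import Cfsg.Agent.Lib.KnownB.Fi22Mult.Words

/-! Words in the nine root involutions. -/

set_option autoImplicit false

namespace CfsgLib.KnownB.Fi22Mult.Rep

/-- the rows of the scalar `ω` -/
def omegaRows : List Vc := idRows.map wm

/-- the rows of the scalar `ω + 1` -/
def omegaRows' : List Vc := omegaRows.map wm

/-- the map of a node -/
def act (i : ℕ) : Vc → Vc := app (matOf i) 0

/-- the rows of the product along a word -/
def prodM : List ℕ → List Vc
  | [] => idRows
  | i :: w => (prodM w).map (act i)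

/-- two words have the same product -/
def sameW (u w : List ℕ) : Bool := eqL (prodM u) (prodM w)

theorem length_matOf : ∀ i, (matOf i).length = 27
  | 0 | 1 | 2 | 3 | 4 | 5 | 6 | 7 | 8 => rfl
  | n + 9 => by simp [matOf, idRows, length_unitRows]

theorem act_sh (i : ℕ) (u : Vc) : act i (sh 27 u) = sh 27 u := by
  have h := app_sh (matOf i) 0 u
  rwa [length_matOf, Nat.zero_add] at h

theorem length_prodM : ∀ w, (prodM w).length = 27
  | [] => length_unitRows 0 27
  | i :: w => by rw [prodM, List.length_map, length_prodM w]

theorem app_idRows (v : Vc) : app idRows 0 v = v := by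
  rw [idRows, app_unitRows]
  simp [sh]

theorem app_prodM : ∀ (w : List ℕ) (v : Vc), app (prodM w) 0 v = w.foldr (fun i u => act i u) v
  | [], v => app_idRows v
  | i :: w, v => by
    rw [prodM, show app ((prodM w).map (act i)) 0 v = act i (app (prodM w) 0 v) from
      app_map (lin_app _ _) _ _ _ fun u => by rw [length_prodM, Nat.zero_add]; exact act_sh i u,
      app_prodM w v]
    rfl

/-- the scalar `ω` on the first 27 coordinates -/
def om : Vc → Vc := app omegaRows 0

theorem length_omegaRows : omegaRows.length = 27 := by
  rw [omegaRows, List.length_map, idRows, length_unitRows]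

theorem om_sh (u : Vc) : om (sh 27 u) = sh 27 u := by
  have h := app_sh omegaRows 0 u
  rwa [length_omegaRows, Nat.zero_add] at h

theorem app_map_om (A : List Vc) (hA : A.length = 27) (v : Vc) :
    app (A.map om) 0 v = om (app A 0 v) :=
  app_map (lin_app _ _) _ _ _ fun u => by rw [hA, Nat.zero_add]; exact om_sh u

theorem app_map_act (A : List Vc) (hA : A.length = 27) (i : ℕ) (v : Vc) :
    app (A.map (act i)) 0 v = act i (app A 0 v) :=
  app_map (lin_app _ _) _ _ _ fun u => by rw [hA, Nat.zero_add]; exact act_sh i u

theorem sameW_sound {u w : List ℕ} (h : sameW u w = true) (v : Vc) :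
    u.foldr (fun i x => act i x) v = w.foldr (fun i x => act i x) v := by
  rw [← app_prodM, ← app_prodM, eqL_sound h]

end CfsgLib.KnownB.Fi22Mult.Rep
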