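import Cfsg.Agent.Lib.KnownB.Fi22Mult.Mat

/-! The Coxeter relations for the nine root involutions. -/

set_option autoImplicit false
set_option maxRecDepth 100000
set_option Elab.async false

namespace CfsgLib.KnownB.Fi22Mult.Rep

/-- the Coxeter relations -/
def coxOK : Bool :=
  (List.range 9).all fun i => sameW [i, i] [] && ((List.range 9).all fun j =>
    bif edgeB i j then sameW [i, j, i] [j, i, j] else sameW [i, j] [j, i])

/-- the scalar is central and has order three -/
def omOK : Bool :=
  eqL ((omegaRows.map om).map om) idRows &&
    ((List.range 9).all fun i => eqL (omegaRows.map (act i)) ((prodM [i]).map om))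

theorem coxOK_true : coxOK = true := by decide +kernel

theorem omOK_true : omOK = true := by decide +kernel

theorem gen_not_scalar : eqL (prodM [0]) idRows = false ∧ eqL (prodM [0]) omegaRows = false ∧
    eqL (prodM [0]) omegaRows' = false ∧ eqL omegaRows idRows = false := by decide +kernel

end CfsgLib.KnownB.Fi22Mult.Rep
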