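import Cfsg.Agent.Lib.KnownB.Fi22Mult.Mat
import Cfsg.Agent.Lib.KnownB.Fi22Mult.Lifts

/-! The values of the further relators on the nine root involutions. -/

set_option autoImplicit false
set_option maxRecDepth 100000
set_option Elab.async false

namespace CfsgLib.KnownB.Fi22Mult.Rep

theorem spider_rows : eqL (prodM (repW 10 spiderW)) (omegaRows.map om) = true := by decide +kernel

theorem sevenA_rows : eqL (prodM (repW 9 sevenA)) idRows = true := by decide +kernel

theorem sevenB_rows : eqL (prodM (repW 9 sevenB)) idRows = true := by decide +kernel

theorem sevenC_rows : eqL (prodM (repW 9 sevenC)) idRows = true := by decide +kernel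

end CfsgLib.KnownB.Fi22Mult.Rep
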