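import Mathlib

/-!
Rewriting of words in generators which satisfy braid and commutation relations and have a common
central square.
-/

set_option autoImplicit false

namespace CfsgLib.KnownB.Fi22Mult

/-- the edges of the diagram `Y₃₃₂` on the nodes `0, …, 8` (the letters `a, …, i`) -/
def edgeB (i j : ℕ) : Bool :=
  [(0, 1), (1, 2), (2, 3), (3, 4), (3, 7), (4, 5), (5, 6), (7, 8)].any fun p =>
    (Nat.beq p.1 i && Nat.beq p.2 j) || (Nat.beq p.1 j && Nat.beq p.2 i)

/-- a commutation -/
def swapHead : List ℕ → Option (List ℕ × ℕ)
  | a :: b :: r =>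
    if Nat.blt a 9 && Nat.blt b 9 && !edgeB a b && !Nat.beq a b then some (b :: a :: r, 0) else none
  | _ => none

/-- a braid relation -/
def braidHead : List ℕ → Option (List ℕ × ℕ)
  | a :: b :: c :: r =>
    if Nat.blt a 9 && Nat.blt b 9 && Nat.beq a c && edgeB a b then some (b :: a :: b :: r, 0) else none
  | _ => none

/-- deletion of a square -/
def delHead : List ℕ → Option (List ℕ × ℕ)
  | a :: b :: r => if Nat.blt a 9 && Nat.beq a b then some (r, 1) else none
  | _ => none

/-- a move at a position -/
def moveAt (k : ℕ) : ℕ → List ℕ → Option (List ℕ × ℕ)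
  | 0, w => match k with
    | 0 => swapHead w
    | 1 => braidHead w
    | _ => delHead w
  | _ + 1, [] => none
  | p + 1, a :: w => match moveAt k p w with
    | none => none
    | some (w', d) => some (a :: w', d)

/-- a sequence of moves, counting the deleted squares -/
def runMoves : List (ℕ × ℕ) → List ℕ → Option (List ℕ × ℕ)
  | [], w => some (w, 0)
  | (p, k) :: ms, w => match moveAt k p w with
    | none => none
    | some (w', d) => match runMoves ms w' with
      | none => none
      | some (w'', e) => some (w'', d + e)

/-- the moves lead to the empty word after `n` deletions -/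
def reducesTo (ms : List (ℕ × ℕ)) (w : List ℕ) (n : ℕ) : Bool :=
  match runMoves ms w with
  | some (w', d) => w'.isEmpty && Nat.beq d n
  | none => false

variable {Q : Type*} [Group Q] (f : ℕ → Q) (T : Q)

/-- value of a word -/
def val (w : List ℕ) : Q := (w.map f).prod

theorem val_nil : val f [] = 1 := rfl

theorem val_cons (a : ℕ) (w : List ℕ) : val f (a :: w) = f a * val f w := by simp [val]

theorem val_append (v w : List ℕ) : val f (v ++ w) = val f v * val f w := by simp [val]

/-- the relations -/
structure Braided : Prop where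
  braid : ∀ i j, i < 9 → j < 9 → edgeB i j = true → f i * f j * f i = f j * f i * f j
  comm : ∀ i j, i < 9 → j < 9 → edgeB i j = false → i ≠ j → f i * f j = f j * f i
  sq : ∀ i, i < 9 → f i * f i = T
  central : ∀ g : Q, g * T = T * g

variable {f T}

theorem Braided.head (h : Braided f T) {k : ℕ} {w w' : List ℕ} {d : ℕ}
    (e : moveAt k 0 w = some (w', d)) : val f w = val f w' * T ^ d := by
  match k with
  | 0 =>
    match w with
    | [] => simp [moveAt, swapHead] at e
    | [a] => simp [moveAt, swapHead] at e
    | a :: b :: r =>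
      simp only [moveAt, swapHead, Option.ite_none_right_eq_some, Option.some.injEq, Prod.mk.injEq,
        Bool.and_eq_true, Nat.blt_eq, Bool.not_eq_true'] at e
      obtain ⟨⟨⟨⟨ha, hb⟩, hab⟩, hne⟩, rfl, rfl⟩ := e
      have hne' : a ≠ b := fun h => by subst h; rw [Nat.beq_refl] at hne; exact Bool.noConfusion hne
      rw [val_cons, val_cons, val_cons, val_cons, pow_zero, mul_one, ← mul_assoc, h.comm a b ha hb hab hne',
        mul_assoc]
  | 1 =>
    match w with
    | [] => simp [moveAt, braidHead] at e
    | [a] => simp [moveAt, braidHead] at e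
    | [a, b] => simp [moveAt, braidHead] at e
    | a :: b :: c :: r =>
      simp only [moveAt, braidHead, Option.ite_none_right_eq_some, Option.some.injEq, Prod.mk.injEq,
        Bool.and_eq_true, Nat.blt_eq, Nat.beq_eq] at e
      obtain ⟨⟨⟨⟨ha, hb⟩, hc⟩, hab⟩, rfl, rfl⟩ := e
      subst hc
      have := h.braid a b ha hb hab
      simp only [val_cons, pow_zero, mul_one, ← mul_assoc]
      rw [this]
  | k + 2 =>
    match w with
    | [] => simp [moveAt, delHead] at e
    | [a] => simp [moveAt, delHead] at e
    | a :: b :: r =>
      simp only [moveAt, delHead, Option.ite_none_right_eq_some, Option.some.injEq, Prod.mk.injEq,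
        Bool.and_eq_true, Nat.blt_eq, Nat.beq_eq] at e
      obtain ⟨⟨ha, hb⟩, rfl, rfl⟩ := e
      subst hb
      rw [val_cons, val_cons, pow_one, ← mul_assoc, h.sq a ha, h.central]

theorem Braided.move (h : Braided f T) {k : ℕ} : ∀ (p : ℕ) {w w' : List ℕ} {d : ℕ},
    moveAt k p w = some (w', d) → val f w = val f w' * T ^ d
  | 0, _, _, _, e => h.head e
  | p + 1, [], _, _, e => by simp [moveAt] at e
  | p + 1, a :: w, w', d, e => by
    rw [moveAt] at e
    split at e
    · simp at e
    · next v d' hv =>
      simp only [Option.some.injEq, Prod.mk.injEq] at e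
      obtain ⟨rfl, rfl⟩ := e
      rw [val_cons, val_cons, h.move p hv, mul_assoc]

theorem Braided.run (h : Braided f T) : ∀ (ms : List (ℕ × ℕ)) {w w' : List ℕ} {d : ℕ},
    runMoves ms w = some (w', d) → val f w = val f w' * T ^ d
  | [], w, w', d, e => by
    simp only [runMoves, Option.some.injEq, Prod.mk.injEq] at e
    obtain ⟨rfl, rfl⟩ := e
    rw [pow_zero, mul_one]
  | (p, k) :: ms, w, w', d, e => by
    rw [runMoves] at e
    split at e
    · simp at e
    · next v d1 hv =>
      split at e
      · simp at e
      · next v' d2 hv' =>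
        simp only [Option.some.injEq, Prod.mk.injEq] at e
        obtain ⟨rfl, rfl⟩ := e
        rw [h.move p hv, h.run ms hv', mul_assoc, ← pow_add, add_comm d1]

theorem Braided.reduces (h : Braided f T) {ms : List (ℕ × ℕ)} {w : List ℕ} {n : ℕ}
    (e : reducesTo ms w n = true) : val f w = T ^ n := by
  rw [reducesTo] at e
  split at e
  · next w' d hr =>
    simp only [Bool.and_eq_true, List.isEmpty_iff, Nat.beq_eq] at e
    obtain ⟨rfl, rfl⟩ := e
    rw [h.run ms hr, val_nil, one_mul]
  · simp at e

end CfsgLib.KnownB.Fi22Mult
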