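import Cfsg.Agent.Lib.KnownB.Fi22Mult.Lifts

/-! Every stem extension of `Fi₂₂` has cyclic kernel of order dividing six. -/

set_option autoImplicit false
set_option maxRecDepth 100000

namespace CfsgLib.KnownB.Fi22Mult

open Cfsg.Spor
open scoped commutatorElement IsMulCommutative

theorem commutator_eq_top : commutator Fi22 = ⊤ := by
  rw [← Abelianization.ker_of, eq_top_iff, ← PresentedGroup.closure_range_of, Subgroup.closure_le]
  rintro _ ⟨g, rfl⟩
  rw [SetLike.mem_coe, MonoidHom.mem_ker]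
  let X : ℕ → Abelianization Fi22 := fun i => Abelianization.of (gen i)
  have hsq : ∀ i, X i * X i = 1 := fun i => by simp only [X, ← map_mul, gen_sq, map_one]
  have hedge : ∀ i j, i < 9 → j < 9 → edgeB i j = true → X i = X j := by
    intro i j hi hj h
    have e := congrArg Abelianization.of (gen_braid hi hj h)
    simp only [map_mul] at e
    change X i * X j * X i = X j * X i * X j at e
    rw [mul_right_comm, hsq, one_mul, mul_right_comm, hsq, one_mul] at e
    exact e.symm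
  have hall : ∀ i < 9, X i = X 0 := by
    intro i
    induction i using Nat.strong_induction_on with
    | _ i ih =>
      intro hi
      by_cases h0 : i = 0
      · rw [h0]
      obtain ⟨hlt, he⟩ := par_lt i hi (Nat.pos_of_ne_zero h0)
      rw [← hedge _ _ (by omega) hi he]
      exact ih _ hlt (by omega)
  have h63 : X 0 ^ 63 = 1 := by
    have e := congrArg Abelianization.of sevenA_one
    rw [map_pow, map_one, val, map_list_prod, List.map_map] at e
    have e' : (sevenA.map (fun i => Abelianization.of (gen i))) = List.replicate 7 (X 0) := by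
      simp only [sevenA, List.map_cons, List.map_nil]
      show [X 0, X 1, X 2, X 3, X 4, X 5, X 7] = _
      rw [hall 1 (by norm_num), hall 2 (by norm_num), hall 3 (by norm_num), hall 4 (by norm_num),
        hall 5 (by norm_num), hall 7 (by norm_num)]
      rfl
    rw [show (⇑Abelianization.of ∘ gen) = fun i => Abelianization.of (gen i) from rfl, e',
      List.prod_replicate, ← pow_mul] at e
    exact e
  have h1 : X 0 = 1 := by
    have : (X 0 * X 0) ^ 31 * X 0 = X 0 ^ 63 := by rw [← pow_two, ← pow_mul, ← pow_succ]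
    rwa [h63, hsq, one_pow, one_mul] at this
  rw [← ndG_posG g]
  exact (hall _ (posG_lt g)).trans h1

theorem collect {C : Type*} [CommGroup C] (t a b c : C) (hc : c ^ (2 : ℤ) = t ^ (63 : ℤ)) (i j k m n : ℤ)
    (hi : i = -45 * j + -63 * n) (hm : m = -k + 2 * n) :
    t ^ i * a ^ j * b ^ k * c ^ m = (a * (t ^ 45)⁻¹) ^ j * (b * c⁻¹) ^ k := by
  have e : c ^ (2 * n) = t ^ (63 * n) := by rw [zpow_mul, zpow_mul, hc]
  rw [mul_zpow, mul_zpow, hi, hm, zpow_add c, e, ← zpow_natCast t 45, inv_zpow', inv_zpow', ← zpow_mul,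
    zpow_add t, show (-63 : ℤ) * n = -(63 * n) by ring, zpow_neg t (63 * n),
    show ((45 : ℕ) : ℤ) * -j = -45 * j by push_cast; ring]
  generalize t ^ (-45 * j) = p
  generalize t ^ (63 * n) = q
  generalize a ^ j = r
  generalize b ^ k = s
  generalize c ^ (-k) = v
  calc p * q⁻¹ * r * s * (v * q) = r * p * (s * v) * (q⁻¹ * q) := by ac_rfl
    _ = r * p * (s * v) := by rw [inv_mul_cancel, mul_one]

theorem ker_le_zpowers {Γ : Type*} [Group Γ] (σ : Γ →* Fi22) (hσ : Cfsg.IsStemExtension σ)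
    (hC : val gen sevenC ^ 9 = 1 ∨ val gen sevenC ^ 9 = gen 0) :
    ∃ w : Γ, w ^ 6 = 1 ∧ σ.ker ≤ Subgroup.zpowers w := by
  obtain ⟨hs, hc, hd⟩ := hσ
  obtain ⟨x, hx, hB⟩ := exists_lifts σ hs hc hC
  have hperf : commutator Γ = ⊤ := by
    refine eq_top_iff.2 fun g _ => ?_
    have hg : σ g ∈ (commutator Γ).map σ := by
      rw [commutator_def, Subgroup.map_commutator, Subgroup.map_top_of_surjective σ hs, ← commutator_def,
        commutator_eq_top]
      exact Subgroup.mem_top _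
    obtain ⟨c, hcm, he⟩ := hg
    have : c⁻¹ * g ∈ commutator Γ := hd (by rw [MonoidHom.mem_ker, map_mul, map_inv, he, inv_mul_cancel])
    simpa using mul_mem hcm this
  let L : Subgroup Γ := Subgroup.closure (x '' {i | i < 9})
  have hLA : ∀ g : Γ, ∃ l ∈ L, ∃ a ∈ σ.ker, g = l * a := by
    intro g
    have hg : σ g ∈ L.map σ := by
      have : (⊤ : Subgroup Fi22) ≤ L.map σ := by
        rw [← PresentedGroup.closure_range_of, Subgroup.closure_le]
        rintro _ ⟨k, rfl⟩
        exact ⟨x (posG k), Subgroup.subset_closure ⟨_, posG_lt k, rfl⟩, by rw [hx, gen, ndG_posG]⟩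
      exact this (Subgroup.mem_top _)
    obtain ⟨l, hl, he⟩ := hg
    exact ⟨l, hl, l⁻¹ * g, by rw [MonoidHom.mem_ker, map_mul, map_inv, he, inv_mul_cancel], by group⟩
  let f : ℕ → Γ × Multiplicative ℤ := fun i => (x i, Multiplicative.ofAdd 1)
  let H : Subgroup (Γ × Multiplicative ℤ) := Subgroup.closure (f '' {i | i < 9})
  have hfst : ∀ l ∈ L, ∃ h ∈ H, h.1 = l := by
    intro l hl
    have : L = H.map (MonoidHom.fst Γ (Multiplicative ℤ)) := by
      rw [MonoidHom.map_closure, Set.image_image]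
      rfl
    rw [this] at hl
    exact hl
  let T : Γ × Multiplicative ℤ := f 0 * f 0
  let Z1 := val f spiderW ^ 10
  let Z2 := val f sevenA ^ 9
  let Z3 := val f sevenB ^ 9
  have hB' : Braided f T := by
    refine ⟨fun i j hi hj h => Prod.ext (hB.braid i j hi hj h) rfl,
      fun i j hi hj h hne => Prod.ext (hB.comm i j hi hj h hne) rfl,
      fun i hi => Prod.ext (hB.sq i hi) rfl, fun g => Prod.ext (hB.central g.1) (mul_comm _ _)⟩
  have hval1 : ∀ w, (val f w).1 = val x w := fun w => by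
    induction w with
    | nil => rfl
    | cons a w ih => rw [val_cons, val_cons, Prod.fst_mul, ih]
  have hval2 : ∀ w, (val f w).2 = Multiplicative.ofAdd ((w.length : ℕ) : ℤ) := fun w => by
    induction w with
    | nil => rfl
    | cons a w ih =>
      rw [val_cons, Prod.snd_mul, ih, List.length_cons, ← ofAdd_add]
      push_cast
      rw [add_comm]
  have hσval : ∀ w, σ (val x w) = val gen w := fun w => by
    induction w with
    | nil => exact map_one σ
    | cons a w ih => rw [val_cons, val_cons, map_mul, hx, ih]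
  have hcz : ∀ w n, val gen w ^ n = 1 → ∀ g, g * val f w ^ n = val f w ^ n * g := fun w n h g =>
    Prod.ext (by
      show g.1 * (val f w ^ n).1 = (val f w ^ n).1 * g.1
      rw [Prod.pow_fst, hval1]
      exact Subgroup.mem_center_iff.1 (hc (by rw [MonoidHom.mem_ker, map_pow, hσval, h])) _)
      (mul_comm _ _)
  have c1 : ∀ g, g * Z1 = Z1 * g := hcz _ _ spider_one
  have c2 : ∀ g, g * Z2 = Z2 * g := hcz _ _ sevenA_one
  have c3 : ∀ g, g * Z3 = Z3 * g := hcz _ _ sevenB_one
  have r1 : Z1 ^ 3 = T ^ 135 := hB'.spider c1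
  have r2 : Z2 ^ 2 = T ^ 63 := hB'.seven movesA_ok
  have r3 : Z3 ^ 2 = T ^ 63 := hB'.seven movesB_ok
  let K : Subgroup (Γ × Multiplicative ℤ) := Subgroup.closure {T, Z1, Z2, Z3}
  have hKc : K ≤ Subgroup.center _ := by
    rw [Subgroup.closure_le]
    intro g hg
    simp only [Set.mem_insert_iff, Set.mem_singleton_iff] at hg
    rw [SetLike.mem_coe, Subgroup.mem_center_iff]
    rcases hg with rfl | rfl | rfl | rfl
    exacts [hB'.central, c1, c2, c3]
  haveI : K.Normal := ⟨fun k hk g => by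
    rw [Subgroup.mem_center_iff.1 (hKc hk) g, mul_inv_cancel_right]; exact hk⟩
  let mk := QuotientGroup.mk' K
  have hk1 : ∀ g ∈ ({T, Z1, Z2, Z3} : Set (Γ × Multiplicative ℤ)), mk g = 1 := fun g hg =>
    (QuotientGroup.eq_one_iff g).2 (Subgroup.subset_closure hg)
  have hT : mk T = 1 := hk1 T (Or.inl rfl)
  have hrels : ∀ r ∈ coxRelators Fi22.edges ∪ {r | r ∈ Fi22.extra},
      FreeGroup.lift (fun g => mk (f (posG g))) r = 1 := by
    intro r hr
    rcases hr with ⟨p, -, q, -, rfl⟩ | hr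
    · simp only [map_pow, map_mul, FreeGroup.lift_apply_of]
      have hp := posG_lt p
      have hq := posG_lt q
      have hsq : ∀ i < 9, mk (f i) * mk (f i) = 1 := fun i hi => by
        rw [← map_mul, hB'.sq i hi, hT]
      rcases label_cases p q with ⟨rfl, hl⟩ | ⟨he, hl⟩ | ⟨he, hne, hl⟩ <;> rw [hl]
      · rw [pow_one, hsq _ hp]
      · have e : mk (f (posG p)) * mk (f (posG q)) * mk (f (posG p)) =
            mk (f (posG q)) * mk (f (posG p)) * mk (f (posG q)) := by
          simp only [← map_mul, hB'.braid _ _ hp hq he]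
        have hsqp := hsq _ hp
        have hsqq := hsq _ hq
        generalize mk (f (posG p)) = P at e hsqp ⊢
        generalize mk (f (posG q)) = R at e hsqq ⊢
        calc (P * R) ^ 3 = (P * R * P) * (R * P * R) := by
              simp only [pow_succ, pow_zero, one_mul, mul_assoc]
          _ = R * P * (R * R) * P * R := by rw [e]; simp only [mul_assoc]
          _ = R * (P * P) * R := by rw [hsqq, mul_one]; simp only [mul_assoc]
          _ = 1 := by rw [hsqp, mul_one, hsqq]
      · have hpq : posG p ≠ posG q := fun h => hne (by rw [← ndG_posG p, h, ndG_posG])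
        have e : mk (f (posG p)) * mk (f (posG q)) = mk (f (posG q)) * mk (f (posG p)) := by
          rw [← map_mul, hB'.comm _ _ hp hq he hpq, map_mul]
        rw [pow_two]
        conv_lhs => arg 2; rw [e]
        rw [mul_assoc, ← mul_assoc (mk (f (posG q))), hsq _ hq, one_mul, hsq _ hp]
    · rw [Set.mem_setOf_eq, extra_eq] at hr
      simp only [List.mem_cons, List.not_mem_nil, or_false] at hr
      have hmap : ∀ (w : List ℕ), (∀ i ∈ w, i < 9) →
          FreeGroup.lift (fun g => mk (f (posG g))) (w.map fun i => FreeGroup.of (ndG i)).prod = mk (val f w) := by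
        intro w hw
        induction w with
        | nil => simp [val]
        | cons a w ih =>
          rw [List.map_cons, List.prod_cons, map_mul, FreeGroup.lift_apply_of,
            ih fun i hi => hw i (List.mem_cons_of_mem _ hi), val_cons, map_mul,
            posG_ndG a (hw a List.mem_cons_self)]
      rcases hr with rfl | rfl | rfl <;> rw [map_pow, hmap _ (by decide), ← map_pow]
      · exact hk1 _ (Or.inr (Or.inl rfl))
      · exact hk1 _ (Or.inr (Or.inr (Or.inl rfl)))
      · exact hk1 _ (Or.inr (Or.inr (Or.inr rfl)))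
  let φ : Fi22 →* (Γ × Multiplicative ℤ) ⧸ K := PresentedGroup.toGroup hrels
  have hφ : ∀ h ∈ H, φ (σ h.1) = mk h := by
    intro h hh
    induction hh using Subgroup.closure_induction with
    | mem h hh =>
      obtain ⟨i, hi, rfl⟩ := hh
      show φ (σ (x i)) = mk (f i)
      rw [hx, gen]
      refine (PresentedGroup.toGroup.of hrels).trans ?_
      rw [posG_ndG i hi]
    | one => simp
    | mul a b _ _ ha hb => rw [Prod.fst_mul, map_mul, map_mul, map_mul, ha, hb]
    | inv a _ ha => rw [Prod.fst_inv, map_inv, map_inv, map_inv, ha]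
  have hform : ∀ h ∈ K, ∃ i j k l : ℤ, h = T ^ i * Z1 ^ j * Z2 ^ k * Z3 ^ l := by
    have mc : ∀ {z : Γ × Multiplicative ℤ}, (∀ g, g * z = z * g) → z ∈ Subgroup.center _ :=
      fun hz => Subgroup.mem_center_iff.2 hz
    let t' : Subgroup.center (Γ × Multiplicative ℤ) := ⟨T, mc hB'.central⟩
    let u1 : Subgroup.center (Γ × Multiplicative ℤ) := ⟨Z1, mc c1⟩
    let u2 : Subgroup.center (Γ × Multiplicative ℤ) := ⟨Z2, mc c2⟩
    let u3 : Subgroup.center (Γ × Multiplicative ℤ) := ⟨Z3, mc c3⟩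
    have hle : K ≤ (Subgroup.closure {t', u1, u2, u3}).map (Subgroup.center _).subtype := by
      rw [Subgroup.closure_le]
      intro g hg
      simp only [Set.mem_insert_iff, Set.mem_singleton_iff] at hg
      rcases hg with rfl | rfl | rfl | rfl
      exacts [⟨t', Subgroup.subset_closure (Or.inl rfl), rfl⟩,
        ⟨u1, Subgroup.subset_closure (Or.inr (Or.inl rfl)), rfl⟩,
        ⟨u2, Subgroup.subset_closure (Or.inr (Or.inr (Or.inl rfl))), rfl⟩,
        ⟨u3, Subgroup.subset_closure (Or.inr (Or.inr (Or.inr rfl))), rfl⟩]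
    intro h hh
    obtain ⟨c, hc', rfl⟩ := hle hh
    suffices key : ∃ i j k l : ℤ, c = t' ^ i * u1 ^ j * u2 ^ k * u3 ^ l by
      obtain ⟨i, j, k, l, rfl⟩ := key
      exact ⟨i, j, k, l, by simp [t', u1, u2, u3]⟩
    clear hh
    induction hc' using Subgroup.closure_induction with
    | mem h hh =>
      rcases hh with rfl | rfl | rfl | rfl
      · exact ⟨1, 0, 0, 0, by simp⟩
      · exact ⟨0, 1, 0, 0, by simp⟩
      · exact ⟨0, 0, 1, 0, by simp⟩
      · exact ⟨0, 0, 0, 1, by simp⟩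
    | one => exact ⟨0, 0, 0, 0, by simp⟩
    | mul a b _ _ ha hb =>
      obtain ⟨i, j, k, l, rfl⟩ := ha
      obtain ⟨i', j', k', l', rfl⟩ := hb
      refine ⟨i + i', j + j', k + k', l + l', ?_⟩
      simp only [zpow_add]
      ac_rfl
    | inv a _ ha =>
      obtain ⟨i, j, k, l, rfl⟩ := ha
      exact ⟨-i, -j, -k, -l, by simp only [mul_inv, zpow_neg]⟩
  let W1 : Γ := Z1.1 * (T.1 ^ 45)⁻¹
  let W2 : Γ := Z2.1 * Z3.1⁻¹
  have fc1 : ∀ g : Γ, g * Z1.1 = Z1.1 * g := fun g => congrArg Prod.fst (c1 (g, 1))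
  have fc2 : ∀ g : Γ, g * Z2.1 = Z2.1 * g := fun g => congrArg Prod.fst (c2 (g, 1))
  have fc3 : ∀ g : Γ, g * Z3.1 = Z3.1 * g := fun g => congrArg Prod.fst (c3 (g, 1))
  have fcT : ∀ g : Γ, g * T.1 = T.1 * g := fun g => congrArg Prod.fst (hB'.central (g, 1))
  have hW1 : W1 ^ 3 = 1 := by
    have : Commute Z1.1 (T.1 ^ 45)⁻¹ := ((show Commute Z1.1 T.1 from fcT _).pow_right 45).inv_right
    rw [show W1 = Z1.1 * (T.1 ^ 45)⁻¹ from rfl, this.mul_pow, ← Prod.pow_fst, r1, Prod.pow_fst, inv_pow,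
      ← pow_mul, mul_inv_cancel]
  have hW2 : W2 ^ 2 = 1 := by
    have : Commute Z2.1 Z3.1⁻¹ := (show Commute Z2.1 Z3.1 from fc3 _).inv_right
    rw [show W2 = Z2.1 * Z3.1⁻¹ from rfl, this.mul_pow, inv_pow, ← Prod.pow_fst, ← Prod.pow_fst, r2, r3,
      mul_inv_cancel]
  have hcW : Commute W1 W2 := Commute.mul_right (fc2 W1) (show Commute W1 Z3.1 from fc3 W1).inv_right
  refine ⟨W1 * W2, ?_, fun a ha => ?_⟩
  · rw [hcW.mul_pow, show 6 = 3 * 2 from rfl, pow_mul, hW1, one_pow, one_mul, mul_comm 3 2, pow_mul, hW2,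
      one_pow]
  have hLtop : ∀ g : Γ, g ∈ (commutator L).map L.subtype := by
    intro g
    have hle : commutator Γ ≤ (commutator L).map L.subtype := by
      rw [commutator_def, Subgroup.commutator_le]
      intro p _ q _
      obtain ⟨l, hl, a, hA, rfl⟩ := hLA p
      obtain ⟨l', hl', a', hA', rfl⟩ := hLA q
      have ca : ∀ g, g * a = a * g := Subgroup.mem_center_iff.1 (hc hA)
      have ca' : ∀ g, g * a' = a' * g := Subgroup.mem_center_iff.1 (hc hA')
      refine ⟨⁅⟨l, hl⟩, ⟨l', hl'⟩⁆, Subgroup.commutator_mem_commutator (Subgroup.mem_top _) (Subgroup.mem_top _), ?_⟩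
      show l * l' * l⁻¹ * l'⁻¹ = l * a * (l' * a') * (l * a)⁻¹ * (l' * a')⁻¹
      simp only [mul_inv_rev]
      calc l * l' * l⁻¹ * l'⁻¹ = l * l' * (a' * (a * a⁻¹) * l⁻¹ * a'⁻¹) * l'⁻¹ := by
            rw [mul_inv_cancel, mul_one, ← ca', mul_assoc l⁻¹, mul_inv_cancel, mul_one]
        _ = _ := by
            rw [show l * a * (l' * a') = l * (l' * a') * a by rw [mul_assoc l a, ← ca, ← mul_assoc]]
            simp only [mul_assoc]
    exact hle (hperf ▸ Subgroup.mem_top g)
  obtain ⟨⟨l, hl⟩, hlc, rfl⟩ := hLtop a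
  obtain ⟨h, hh, he1, he2⟩ : ∃ h, h ∈ H ∧ h.1 = l ∧ h.2 = 1 := by
    have hle : (commutator L).map L.subtype ≤
        ((commutator H).map H.subtype).map (MonoidHom.fst Γ (Multiplicative ℤ)) := by
      rw [commutator_def, Subgroup.map_commutator, Subgroup.commutator_le]
      rintro _ ⟨p, -, rfl⟩ _ ⟨q, -, rfl⟩
      obtain ⟨p', hp', ep⟩ := hfst p p.2
      obtain ⟨q', hq', eq'⟩ := hfst q q.2
      refine ⟨_, ⟨⁅⟨p', hp'⟩, ⟨q', hq'⟩⁆, Subgroup.commutator_mem_commutator (Subgroup.mem_top _)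
        (Subgroup.mem_top _), rfl⟩, ?_⟩
      show (⁅p', q'⁆).1 = _
      rw [commutatorElement_def, commutatorElement_def]
      simp [ep, eq']
    obtain ⟨_, ⟨h, hhc, rfl⟩, he⟩ := hle ⟨⟨l, hl⟩, hlc, rfl⟩
    refine ⟨h, h.2, he, ?_⟩
    exact Abelianization.commutator_subset_ker
      ((MonoidHom.snd Γ (Multiplicative ℤ)).comp H.subtype) hhc
  have hK : h ∈ K := by
    have h1 := hφ h hh
    rw [he1, show σ l = 1 from MonoidHom.mem_ker.1 ha, map_one] at h1
    exact (QuotientGroup.eq_one_iff h).1 h1.symm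
  obtain ⟨i, j, k, m, rfl⟩ := hform h hK
  have ps : ∀ (g : Γ × Multiplicative ℤ) (q : ℤ), (g ^ q).2 = g.2 ^ q := fun g q =>
    map_zpow (MonoidHom.snd Γ (Multiplicative ℤ)) g q
  have pf : ∀ (g : Γ × Multiplicative ℤ) (q : ℤ), (g ^ q).1 = g.1 ^ q := fun g q =>
    map_zpow (MonoidHom.fst Γ (Multiplicative ℤ)) g q
  have e2 : Multiplicative.toAdd (T ^ i * Z1 ^ j * Z2 ^ k * Z3 ^ m).2 = 0 := by rw [he2]; rfl
  have s1 : T.2 = Multiplicative.ofAdd (2 : ℤ) := rfl
  have s2 : Z1.2 = Multiplicative.ofAdd (90 : ℤ) := by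
    rw [show Z1 = val f spiderW ^ 10 from rfl, Prod.pow_snd, hval2]; rfl
  have s3 : Z2.2 = Multiplicative.ofAdd (63 : ℤ) := by
    rw [show Z2 = val f sevenA ^ 9 from rfl, Prod.pow_snd, hval2]; rfl
  have s4 : Z3.2 = Multiplicative.ofAdd (63 : ℤ) := by
    rw [show Z3 = val f sevenB ^ 9 from rfl, Prod.pow_snd, hval2]; rfl
  simp only [Prod.snd_mul, ps, toAdd_mul, toAdd_zpow, s1, s2, s3, s4, toAdd_ofAdd,
    smul_eq_mul] at e2
  obtain ⟨n, hn⟩ : ∃ n, k + m = 2 * n := ⟨(k + m) / 2, by omega⟩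
  have hi : i = -45 * j + -63 * n := by omega
  have hm : m = -k + 2 * n := by omega
  have key : l = W1 ^ j * W2 ^ k := by
    rw [← he1]
    simp only [Prod.fst_mul, pf]
    have r3' : Z3.1 ^ (2 : ℤ) = T.1 ^ (63 : ℤ) := by
      rw [zpow_ofNat, zpow_ofNat, ← Prod.pow_fst, r3, Prod.pow_fst]
    have e : T.1 ^ i * Z1.1 ^ j * Z2.1 ^ k * Z3.1 ^ m = W1 ^ j * W2 ^ k := by
      have mc : ∀ {z : Γ}, (∀ g, g * z = z * g) → z ∈ Subgroup.center Γ :=
        fun hz => Subgroup.mem_center_iff.2 hz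
      have := collect (⟨T.1, mc fcT⟩ : Subgroup.center Γ) ⟨Z1.1, mc fc1⟩ ⟨Z2.1, mc fc2⟩ ⟨Z3.1, mc fc3⟩
        (Subtype.ext r3') i j k m n hi hm
      simpa [W1, W2] using congrArg Subtype.val this
    exact e
  show l ∈ Subgroup.zpowers (W1 * W2)
  have m1 : W1 ∈ Subgroup.zpowers (W1 * W2) := by
    refine ⟨4, ?_⟩
    show (W1 * W2) ^ (4 : ℤ) = W1
    rw [zpow_ofNat, hcW.mul_pow, pow_succ W1 3, hW1, one_mul, show 4 = 2 * 2 from rfl, pow_mul, hW2, one_pow,
      mul_one]
  have m2 : W2 ∈ Subgroup.zpowers (W1 * W2) := by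
    refine ⟨3, ?_⟩
    show (W1 * W2) ^ (3 : ℤ) = W2
    rw [zpow_ofNat, hcW.mul_pow, hW1, one_mul, pow_succ W2 2, hW2, one_mul]
  rw [key]
  exact mul_mem (zpow_mem m1 j) (zpow_mem m2 k)

end CfsgLib.KnownB.Fi22Mult
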