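import Cfsg.Agent.Lib.KnownB.Fi22Mult.MatCheck
import Cfsg.Agent.Lib.KnownB.Fi22Mult.MatWords
import Cfsg.Agent.Lib.KnownB.Fi22Mult.Upper

/-! The nine root involutions as permutations, and the map of `Fi₂₂` modulo the scalars. -/

set_option autoImplicit false

namespace CfsgLib.KnownB.Fi22Mult.Rep

open Cfsg.Spor

theorem om_three (v : Vc) : om (om (om v)) = v := by
  have h := omOK_true
  simp only [omOK, Bool.and_eq_true] at h
  have e := congrArg (fun A => app A 0 v) (eqL_sound h.1)
  rwa [app_map_om _ (by rw [List.length_map, length_omegaRows]), app_map_om _ length_omegaRows,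
    app_idRows] at e

theorem act_om (i : ℕ) (hi : i < 9) (v : Vc) : act i (om v) = om (act i v) := by
  have h := omOK_true
  simp only [omOK, Bool.and_eq_true, List.all_eq_true, List.mem_range] at h
  have e := congrArg (fun A => app A 0 v) (eqL_sound (h.2 i hi))
  rw [app_map_act _ length_omegaRows, app_map_om _ (length_prodM _), app_prodM] at e
  exact e

theorem sameW_of (i j : ℕ) (hi : i < 9) (hj : j < 9) :
    sameW [i, i] [] = true ∧ (bif edgeB i j then sameW [i, j, i] [j, i, j] else sameW [i, j] [j, i]) = true := by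
  have h := coxOK_true
  simp only [coxOK, List.all_eq_true, List.mem_range, Bool.and_eq_true] at h
  exact ⟨(h i hi).1, (h i hi).2 j hj⟩

theorem act_act (i : ℕ) (hi : i < 9) : Function.Involutive (act i) := fun v =>
  sameW_sound (sameW_of i i hi hi).1 v

/-- the permutation of a node -/
def pG (x : Fi22.Gen) : Equiv.Perm Vc := (act_act (posG x) (posG_lt x)).toPerm

/-- the scalar as a permutation -/
def omP : Equiv.Perm Vc where
  toFun := om
  invFun v := om (om v)
  left_inv := om_three
  right_inv := om_three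

theorem omP_cube : omP ^ 3 = 1 := Equiv.ext fun v => om_three v

theorem pG_omP (x : Fi22.Gen) : pG x * omP = omP * pG x :=
  Equiv.ext fun v => act_om _ (posG_lt x) v

/-- the permutations of the numbered nodes -/
def pN (i : ℕ) : Equiv.Perm Vc := pG (ndG i)

theorem val_pN_apply : ∀ w : List ℕ, (∀ i ∈ w, i < 9) → ∀ v : Vc, val pN w v = app (prodM w) 0 v := by
  intro w hw v
  rw [app_prodM]
  induction w with
  | nil => rfl
  | cons i w ih =>
    rw [val_cons, Equiv.Perm.mul_apply, ih fun j hj => hw j (List.mem_cons_of_mem _ hj), List.foldr_cons]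
    show act (posG (ndG i)) _ = _
    rw [posG_ndG i (hw i List.mem_cons_self)]

theorem val_pN_eq {w : List ℕ} (hw : ∀ i ∈ w, i < 9) (g : Equiv.Perm Vc) (R : List Vc)
    (h : eqL (prodM w) R = true) (hg : ∀ v, app R 0 v = g v) : val pN w = g :=
  Equiv.ext fun v => by rw [val_pN_apply w hw, eqL_sound h, hg]

theorem spider_pN : val pN spiderW ^ 10 = omP ^ 2 := by
  rw [← val_repW]
  refine val_pN_eq (by decide) _ _ spider_rows fun v => ?_
  rw [app_map_om _ length_omegaRows]
  rfl

theorem sevenA_pN : val pN sevenA ^ 9 = 1 := by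
  rw [← val_repW]
  exact val_pN_eq (by decide) _ _ sevenA_rows app_idRows

theorem sevenB_pN : val pN sevenB ^ 9 = 1 := by
  rw [← val_repW]
  exact val_pN_eq (by decide) _ _ sevenB_rows app_idRows

theorem sevenC_pN : val pN sevenC ^ 9 = 1 := by
  rw [← val_repW]
  exact val_pN_eq (by decide) _ _ sevenC_rows app_idRows

theorem pG_sq (x : Fi22.Gen) : pG x * pG x = 1 := Equiv.ext fun v => act_act _ (posG_lt x) v

theorem pG_cox (x y : Fi22.Gen) : (pG x * pG y) ^ coxLabel Fi22.edges x y = 1 := by
  rcases label_cases x y with ⟨rfl, hl⟩ | ⟨he, hl⟩ | ⟨he, -, hl⟩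
  · rw [hl, pow_one, pG_sq]
  · rw [hl]
    have h := (sameW_of (posG x) (posG y) (posG_lt x) (posG_lt y)).2
    rw [he, cond_true] at h
    have e : pG x * pG y * pG x = pG y * pG x * pG y := Equiv.ext fun v => sameW_sound h v
    calc (pG x * pG y) ^ 3 = (pG x * pG y * pG x) * (pG y * pG x * pG y) := by
          simp only [pow_succ, pow_zero, one_mul, mul_assoc]
      _ = (pG x * pG y * pG x) * (pG x * pG y * pG x) := by rw [← e]
      _ = pG x * pG y * (pG x * pG x) * pG y * pG x := by simp only [mul_assoc]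
      _ = 1 := by rw [pG_sq, mul_one, mul_assoc (pG x), pG_sq, mul_one, pG_sq]
  · rw [hl]
    have h := (sameW_of (posG x) (posG y) (posG_lt x) (posG_lt y)).2
    rw [he, cond_false] at h
    have e : pG x * pG y = pG y * pG x := Equiv.ext fun v => sameW_sound h v
    calc (pG x * pG y) ^ 2 = pG x * pG y * (pG y * pG x) := by rw [pow_two]; nth_rw 2 [e]
      _ = 1 := by rw [mul_assoc, ← mul_assoc (pG y), pG_sq, one_mul, pG_sq]

end CfsgLib.KnownB.Fi22Mult.Rep
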