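import Cfsg.Agent.Lib.KnownB.Fi22Mult.SignData

/-! Checking words in signed permutations. -/

set_option autoImplicit false

namespace CfsgLib.KnownB.Fi22Mult.Sign

open CfsgLib.PresCert

/-- image of the point `2 * p` -/
noncomputable def img (k p : Nat) : Nat := sgnTab.half (Nat.add (Nat.mul k (nat_lit 14080)) p)

/-- image of a signed point under an element -/
noncomputable def step (k e : Nat) : Nat :=
  Nat.xor (img k (Nat.shiftRight e (nat_lit 1))) (Nat.land e (nat_lit 1))

/-- apply a word, first letter first -/
noncomputable def run : List Nat → Nat → Nat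
  | [], e => e
  | k :: w, e => run w (step k e)

/-- the change of sign -/
noncomputable def flip (e : Nat) : Nat := Nat.xor e (nat_lit 1)

/-- the word sends the point `p` to the image given by `t` -/
noncomputable def okAt (w : List Nat) (t : Nat → Nat) (p : Nat) : Bool :=
  Nat.beq (run w (Nat.mul (nat_lit 2) p)) (t p)

/-- checks at all points of one of the four ranges -/
noncomputable def okRange (P : Nat → Bool) (j : Nat) : Bool :=
  allBin (nat_lit 14080) P (nat_lit 12) (Nat.mul j (nat_lit 4096))

theorem okRange_spec {P : Nat → Bool} (h0 : okRange P 0 = true) (h1 : okRange P 1 = true)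
    (h2 : okRange P 2 = true) (h3 : okRange P 3 = true) {p : Nat} (hp : p < 14080) : P p = true := by
  rcases (by omega : p < 4096 ∨ (4096 ≤ p ∧ p < 8192) ∨ (8192 ≤ p ∧ p < 12288) ∨ 12288 ≤ p) with
    h | h | h | h
  · exact allBin_spec _ P 12 _ h0 p (by show 0 ≤ p; omega) hp (by show p < 0 + 2 ^ 12; omega)
  · exact allBin_spec _ P 12 _ h1 p (by show 4096 ≤ p; omega) hp (by show p < 4096 + 2 ^ 12; omega)
  · exact allBin_spec _ P 12 _ h2 p (by show 8192 ≤ p; omega) hp (by show p < 8192 + 2 ^ 12; omega)
  · exact allBin_spec _ P 12 _ h3 p (by show 12288 ≤ p; omega) hp (by show p < 12288 + 2 ^ 12; omega)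

theorem flip_flip (e : Nat) : flip (flip e) = e := by
  show (e ^^^ 1) ^^^ 1 = e
  rw [Nat.xor_assoc, Nat.xor_self, Nat.xor_zero]

theorem step_flip (k e : Nat) : step k (flip e) = flip (step k e) := by
  show img k ((e ^^^ 1) >>> 1) ^^^ ((e ^^^ 1) &&& 1) = (img k (e >>> 1) ^^^ (e &&& 1)) ^^^ 1
  rw [Nat.shiftRight_xor_distrib, Nat.and_xor_distrib_right, show (1 : Nat) >>> 1 = 0 from rfl,
    show (1 : Nat) &&& 1 = 1 from rfl, Nat.xor_zero, Nat.xor_assoc]

theorem run_flip : ∀ (w : List Nat) (e : Nat), run w (flip e) = flip (run w e)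
  | [], _ => rfl
  | k :: w, e => by rw [run, run, step_flip, run_flip w]

theorem run_append : ∀ (u w : List Nat) (e : Nat), run (u ++ w) e = run w (run u e)
  | [], _, _ => rfl
  | k :: u, w, e => by rw [List.cons_append, run, run, run_append u]

theorem flip_two_mul (p : Nat) : flip (2 * p) = 2 * p + 1 := by
  show (2 * p) ^^^ 1 = 2 * p + 1
  refine Nat.eq_of_testBit_eq fun j => ?_
  cases j with
  | zero => simp [Nat.testBit_zero]
  | succ j =>
    rw [Nat.testBit_xor, Nat.testBit_succ, Nat.testBit_succ, Nat.testBit_succ,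
      show 2 * p / 2 = p by omega, show (2 * p + 1) / 2 = p by omega, show 1 / 2 = 0 from rfl,
      Nat.zero_testBit, Bool.xor_false]

/-- two words which agree on the unsigned points agree everywhere -/
theorem run_congr {u w : List Nat} (h : ∀ p < 14080, run u (2 * p) = run w (2 * p)) {e : Nat}
    (he : e < 28160) : run u e = run w e := by
  rcases Nat.even_or_odd' e with ⟨p, rfl | rfl⟩
  · exact h p (by omega)
  · rw [← flip_two_mul, run_flip, run_flip, h p (by omega)]

/-- the element is an involution at a point -/
noncomputable def invAt (k p : Nat) : Bool :=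
  Nat.blt (img k p) (nat_lit 28160) && Nat.beq (step k (img k p)) (Nat.mul (nat_lit 2) p)

/-- two words agree at a point -/
noncomputable def sameAt (u w : List Nat) (p : Nat) : Bool :=
  Nat.beq (run u (Nat.mul (nat_lit 2) p)) (run w (Nat.mul (nat_lit 2) p))

/-- involutions `ks` at a point -/
noncomputable def invsAt (ks : List Nat) (p : Nat) : Bool := ks.all fun k => invAt k p

/-- pairs of words at a point -/
noncomputable def relsAt (L : List (List Nat × List Nat)) (p : Nat) : Bool :=
  L.all fun q => sameAt q.1 q.2 p

/-- a product and its power at a point -/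
noncomputable def prodAt (k : Nat) (w : List Nat) (p : Nat) : Bool :=
  Nat.blt (img k p) (nat_lit 28160) && Nat.beq (run w (Nat.mul (nat_lit 2) p)) (img k p)

/-- the power of a product is a given sign at a point -/
noncomputable def powAt (k m t p : Nat) : Bool :=
  Nat.beq (run (List.replicate m k) (Nat.mul (nat_lit 2) p)) (Nat.add (Nat.mul (nat_lit 2) p) t)

end CfsgLib.KnownB.Fi22Mult.Sign
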