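import Cfsg.Agent.Lib.KnownB.Fi22Mult.Sign

/-! Involutions (generated). -/

set_option autoImplicit false
set_option maxRecDepth 100000
set_option Elab.async false

namespace CfsgLib.KnownB.Fi22Mult.Sign

theorem inv1_0 : okRange (invsAt [5, 6, 7, 8]) 0 = true := by decide +kernel

theorem inv1_1 : okRange (invsAt [5, 6, 7, 8]) 1 = true := by decide +kernel

theorem inv1_2 : okRange (invsAt [5, 6, 7, 8]) 2 = true := by decide +kernel

theorem inv1_3 : okRange (invsAt [5, 6, 7, 8]) 3 = true := by decide +kernel

end CfsgLib.KnownB.Fi22Mult.Sign
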