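import Cfsg.Agent.Lib.KnownB.Fi22Mult.Sign

/-! Coxeter relations (generated). -/

set_option autoImplicit false
set_option maxRecDepth 100000
set_option Elab.async false

namespace CfsgLib.KnownB.Fi22Mult.Sign

theorem rel8_0 : okRange (relsAt [([3, 7, 3], [7, 3, 7]), ([3, 8], [8, 3]), ([4, 5, 4], [5, 4, 5])]) 0 = true := by decide +kernel

theorem rel8_1 : okRange (relsAt [([3, 7, 3], [7, 3, 7]), ([3, 8], [8, 3]), ([4, 5, 4], [5, 4, 5])]) 1 = true := by decide +kernel

theorem rel8_2 : okRange (relsAt [([3, 7, 3], [7, 3, 7]), ([3, 8], [8, 3]), ([4, 5, 4], [5, 4, 5])]) 2 = true := by decide +kernel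

theorem rel8_3 : okRange (relsAt [([3, 7, 3], [7, 3, 7]), ([3, 8], [8, 3]), ([4, 5, 4], [5, 4, 5])]) 3 = true := by decide +kernel

end CfsgLib.KnownB.Fi22Mult.Sign
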