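import Cfsg.Agent.Lib.KnownB.Fi22Mult.Sign

/-! Coxeter relations (generated). -/

set_option autoImplicit false
set_option maxRecDepth 100000
set_option Elab.async false

namespace CfsgLib.KnownB.Fi22Mult.Sign

theorem rel9_0 : okRange (relsAt [([4, 6], [6, 4]), ([4, 7], [7, 4]), ([4, 8], [8, 4])]) 0 = true := by decide +kernel

theorem rel9_1 : okRange (relsAt [([4, 6], [6, 4]), ([4, 7], [7, 4]), ([4, 8], [8, 4])]) 1 = true := by decide +kernel

theorem rel9_2 : okRange (relsAt [([4, 6], [6, 4]), ([4, 7], [7, 4]), ([4, 8], [8, 4])]) 2 = true := by decide +kernel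

theorem rel9_3 : okRange (relsAt [([4, 6], [6, 4]), ([4, 7], [7, 4]), ([4, 8], [8, 4])]) 3 = true := by decide +kernel

end CfsgLib.KnownB.Fi22Mult.Sign
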