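import Cfsg.Agent.Lib.KnownB.Fi22Mult.SignCheck0
import Cfsg.Agent.Lib.KnownB.Fi22Mult.SignCheck1
import Cfsg.Agent.Lib.KnownB.Fi22Mult.SignCheck2
import Cfsg.Agent.Lib.KnownB.Fi22Mult.SignCheck3
import Cfsg.Agent.Lib.KnownB.Fi22Mult.SignCheck4
import Cfsg.Agent.Lib.KnownB.Fi22Mult.SignCheck5
import Cfsg.Agent.Lib.KnownB.Fi22Mult.SignCheck6
import Cfsg.Agent.Lib.KnownB.Fi22Mult.SignCheck7
import Cfsg.Agent.Lib.KnownB.Fi22Mult.SignCheck8
import Cfsg.Agent.Lib.KnownB.Fi22Mult.SignCheck9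
import Cfsg.Agent.Lib.KnownB.Fi22Mult.SignCheck10
import Cfsg.Agent.Lib.KnownB.Fi22Mult.SignCheck11
import Cfsg.Agent.Lib.KnownB.Fi22Mult.SignCheck12
import Cfsg.Agent.Lib.KnownB.Fi22Mult.SignCheck13
import Cfsg.Agent.Lib.KnownB.Fi22Mult.SignCheck14
import Cfsg.Agent.Lib.KnownB.Fi22Mult.SignCheck15
import Cfsg.Agent.Lib.KnownB.Fi22Mult.SignCheck16
import Cfsg.Agent.Lib.KnownB.Fi22Mult.SignCheck17
import Cfsg.Agent.Lib.KnownB.Fi22Mult.Upper

/-! A stem extension of `Fi₂₂` with kernel of order two. -/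

set_option autoImplicit false
set_option maxRecDepth 100000

namespace CfsgLib.KnownB.Fi22Mult.Sign

open Cfsg.Spor

/-- all the Coxeter relations to check -/
def allRels : List (List Nat × List Nat) :=
  (List.range 9).flatMap fun i => (List.range 9).filterMap fun j =>
    if Nat.blt i j then some (if edgeB i j then ([i, j, i], [j, i, j]) else ([i, j], [j, i])) else none

theorem invAt_all {k p : Nat} (hk : k < 9) (hp : p < 14080) :
    img k p < 28160 ∧ step k (img k p) = 2 * p := by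
  have a := okRange_spec inv0_0 inv0_1 inv0_2 inv0_3 hp
  have b := okRange_spec inv1_0 inv1_1 inv1_2 inv1_3 hp
  simp only [invsAt, List.all_eq_true] at a b
  have h : invAt k p = true := by
    rcases (by omega : k ≤ 4 ∨ 5 ≤ k) with h | h
    · exact a k (by interval_cases k <;> decide)
    · exact b k (by interval_cases k <;> decide)
  simp only [invAt, Bool.and_eq_true] at h
  exact ⟨Nat.le_of_ble_eq_true h.1, Nat.eq_of_beq_eq_true h.2⟩

theorem prodAt_all {p : Nat} (hp : p < 14080) :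
    prodAt 9 spiderW p = true ∧ prodAt 10 sevenA p = true ∧ prodAt 11 sevenB p = true :=
  ⟨okRange_spec prod9_0 prod9_1 prod9_2 prod9_3 hp, okRange_spec prod10_0 prod10_1 prod10_2 prod10_3 hp,
    okRange_spec prod11_0 prod11_1 prod11_2 prod11_3 hp⟩

theorem powAt_all {p : Nat} (hp : p < 14080) :
    powAt 9 10 0 p = true ∧ powAt 10 9 1 p = true ∧ powAt 11 9 0 p = true :=
  ⟨okRange_spec pow9_0 pow9_1 pow9_2 pow9_3 hp, okRange_spec pow10_0 pow10_1 pow10_2 pow10_3 hp,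
    okRange_spec pow11_0 pow11_1 pow11_2 pow11_3 hp⟩

theorem relsAt_all {p : Nat} (hp : p < 14080) : ∀ q ∈ allRels, sameAt q.1 q.2 p = true := by
  have h0 := okRange_spec rel0_0 rel0_1 rel0_2 rel0_3 hp
  have h1 := okRange_spec rel1_0 rel1_1 rel1_2 rel1_3 hp
  have h2 := okRange_spec rel2_0 rel2_1 rel2_2 rel2_3 hp
  have h3 := okRange_spec rel3_0 rel3_1 rel3_2 rel3_3 hp
  have h4 := okRange_spec rel4_0 rel4_1 rel4_2 rel4_3 hp
  have h5 := okRange_spec rel5_0 rel5_1 rel5_2 rel5_3 hp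
  have h6 := okRange_spec rel6_0 rel6_1 rel6_2 rel6_3 hp
  have h7 := okRange_spec rel7_0 rel7_1 rel7_2 rel7_3 hp
  have h8 := okRange_spec rel8_0 rel8_1 rel8_2 rel8_3 hp
  have h9 := okRange_spec rel9_0 rel9_1 rel9_2 rel9_3 hp
  have h10 := okRange_spec rel10_0 rel10_1 rel10_2 rel10_3 hp
  have h11 := okRange_spec rel11_0 rel11_1 rel11_2 rel11_3 hp
  simp only [relsAt, List.all_cons, List.all_nil, Bool.and_true, Bool.and_eq_true] at h0 h1 h2 h3 h4 h5 h6 h7 h8 h9 h10 h11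
  intro q hq
  have he : q ∈ ([([0, 1, 0], [1, 0, 1]), ([0, 2], [2, 0]), ([0, 3], [3, 0]), ([0, 4], [4, 0]), ([0, 5], [5, 0]), ([0, 6], [6, 0]), ([0, 7], [7, 0]), ([0, 8], [8, 0]), ([1, 2, 1], [2, 1, 2]), ([1, 3], [3, 1]), ([1, 4], [4, 1]), ([1, 5], [5, 1]), ([1, 6], [6, 1]), ([1, 7], [7, 1]), ([1, 8], [8, 1]), ([2, 3, 2], [3, 2, 3]), ([2, 4], [4, 2]), ([2, 5], [5, 2]), ([2, 6], [6, 2]), ([2, 7], [7, 2]), ([2, 8], [8, 2]), ([3, 4, 3], [4, 3, 4]), ([3, 5], [5, 3]), ([3, 6], [6, 3]), ([3, 7, 3], [7, 3, 7]), ([3, 8], [8, 3]), ([4, 5, 4], [5, 4, 5]), ([4, 6], [6, 4]), ([4, 7], [7, 4]), ([4, 8], [8, 4]), ([5, 6, 5], [6, 5, 6]), ([5, 7], [7, 5]), ([5, 8], [8, 5]), ([6, 7], [7, 6]), ([6, 8], [8, 6]), ([7, 8, 7], [8, 7, 8])] : List (List Nat × List Nat)) := by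
    revert q; decide
  simp only [List.mem_cons, List.not_mem_nil, or_false] at he
  rcases he with rfl | rfl | rfl | rfl | rfl | rfl | rfl | rfl | rfl | rfl | rfl | rfl | rfl | rfl | rfl | rfl | rfl | rfl | rfl | rfl | rfl | rfl | rfl | rfl | rfl | rfl | rfl | rfl | rfl | rfl | rfl | rfl | rfl | rfl | rfl | rfl
  exacts [h0.1, h0.2.1, h0.2.2, h1.1, h1.2.1, h1.2.2, h2.1, h2.2.1, h2.2.2, h3.1, h3.2.1, h3.2.2, h4.1, h4.2.1, h4.2.2, h5.1, h5.2.1, h5.2.2, h6.1, h6.2.1, h6.2.2, h7.1, h7.2.1, h7.2.2, h8.1, h8.2.1, h8.2.2, h9.1, h9.2.1, h9.2.2, h10.1, h10.2.1, h10.2.2, h11.1, h11.2.1, h11.2.2]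

end CfsgLib.KnownB.Fi22Mult.Sign
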